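import Mathlib
import Cfsg.Agent.Lib.Transfer.Frobenius

/-!
# A Sylow 2-subgroup of class two: normal centric subgroups of largest order

`S` is a Sylow 2-subgroup of class at most two with `C(Z(S)) ≤ S` and `N(S) ≤ S`.
A subgroup `E` of `S` is in the family when it contains its centraliser in `S` and its normaliser
is not contained in `S`.  Members of largest order have index two in `S`.
-/

set_option autoImplicit false

open Subgroup
open scoped commutatorElement

namespace Cfsg.Agent.Lib.AInvMaximal21.Centric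

variable {G : Type*} [Group G]

/-- The data about the Sylow subgroup. -/
structure Ctx (S : Subgroup G) : Prop where
  isTwo : IsPGroup 2 S
  maxTwo : ∀ T : Subgroup G, IsPGroup 2 T → S ≤ T → T = S
  classTwo : ∀ a ∈ S, ∀ b ∈ S, ∀ c ∈ S, Commute ⁅a, b⁆ c
  selfNorm : normalizer (S : Set G) ≤ S
  centZ : ∀ g : G, (∀ z ∈ S ⊓ centralizer (S : Set G), Commute g z) → g ∈ S
  normZ : normalizer ((S ⊓ centralizer (S : Set G) : Subgroup G) : Set G) ≤ S

/-- Centric subgroups of `S` with normaliser outside `S`. -/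
structure Fam (S E : Subgroup G) : Prop where
  le : E ≤ S
  centric : ∀ x ∈ S, (∀ e ∈ E, Commute x e) → x ∈ E
  outside : ∃ g ∈ normalizer (E : Set G), g ∉ S

/-- A member of the family of largest order. -/
structure Good (S E : Subgroup G) : Prop extends Fam S E where
  card_le : ∀ F : Subgroup G, Fam S F → Nat.card F ≤ Nat.card E

theorem comm_mem_center {S : Subgroup G} (h : Ctx S) {a b : G} (ha : a ∈ S) (hb : b ∈ S) :
    ⁅a, b⁆ ∈ S ⊓ centralizer (S : Set G) := by
  refine ⟨?_, Subgroup.mem_centralizer_iff.2 fun c hc => (h.classTwo a ha b hb c hc).symm.eq⟩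
  rw [commutatorElement_def]
  exact S.mul_mem (S.mul_mem (S.mul_mem ha hb) (S.inv_mem ha)) (S.inv_mem hb)

theorem center_le {S E : Subgroup G} (hE : Fam S E) : S ⊓ centralizer (S : Set G) ≤ E := by
  intro z hz
  exact hE.centric z hz.1 fun e he => (Subgroup.mem_centralizer_iff.1 hz.2 e (hE.le he)).symm

/-- The centre of `E`. -/
def ctr (E : Subgroup G) : Subgroup G := E ⊓ centralizer (E : Set G)

theorem mem_ctr {E : Subgroup G} {x : G} : x ∈ ctr E ↔ x ∈ E ∧ ∀ e ∈ E, Commute x e := by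
  rw [ctr, mem_inf, Subgroup.mem_centralizer_iff]
  exact and_congr Iff.rfl ⟨fun h e he => (h e he).symm, fun h e he => (h e he).symm⟩

theorem center_le_ctr {S E : Subgroup G} (hE : Fam S E) :
    S ⊓ centralizer (S : Set G) ≤ ctr E := fun z hz =>
  mem_ctr.2 ⟨center_le hE hz, fun e he => (Subgroup.mem_centralizer_iff.1 hz.2 e (hE.le he)).symm⟩

theorem le_normalizer {S E : Subgroup G} (h : Ctx S) (hE : Fam S E) :
    S ≤ normalizer (E : Set G) := by
  have key : ∀ s ∈ S, ∀ e ∈ E, s * e * s⁻¹ ∈ E := by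
    intro s hs e he
    rw [show s * e * s⁻¹ = ⁅s, e⁆ * e by rw [commutatorElement_def]; group]
    exact mul_mem (center_le hE (comm_mem_center h hs (hE.le he))) he
  intro s hs
  refine mem_normalizer_iff.2 fun e => ⟨key s hs e, fun he => ?_⟩
  have := key s⁻¹ (inv_mem hs) _ he
  rwa [show s⁻¹ * (s * e * s⁻¹) * s⁻¹⁻¹ = e by group] at this

theorem ctr_normalized {E : Subgroup G} {g x : G} (hg : g ∈ normalizer (E : Set G))
    (hx : x ∈ ctr E) : g * x * g⁻¹ ∈ ctr E := by
  rw [mem_ctr] at hx ⊢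
  refine ⟨(mem_normalizer_iff.1 hg x).1 hx.1, fun e he => ?_⟩
  have he' : g⁻¹ * e * g ∈ E := by
    have := (mem_normalizer_iff.1 (inv_mem hg) e).1 he
    simpa using this
  have h1 := (hx.2 _ he').eq
  calc g * x * g⁻¹ * e = g * (x * (g⁻¹ * e * g)) * g⁻¹ := by group
    _ = g * ((g⁻¹ * e * g) * x) * g⁻¹ := by rw [h1]
    _ = e * (g * x * g⁻¹) := by group

/-- Elements of odd order are trivial: the group lies in `S`. -/
theorem le_of_odd_trivial [Finite G] {S H : Subgroup G} (h : Ctx S) (hSH : S ≤ H)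
    (htriv : ∀ g ∈ H, Odd (orderOf g) → g = 1) : H ≤ S := by
  have hH : IsPGroup 2 H := by
    intro g
    obtain ⟨k, m, hm, hkm⟩ := Nat.exists_eq_pow_mul_and_not_dvd (n := orderOf (g : G))
      (orderOf_pos (g : G)).ne' 2 (by norm_num)
    refine ⟨k, Subtype.ext ?_⟩
    rw [SubmonoidClass.coe_pow, OneMemClass.coe_one]
    refine htriv _ (pow_mem g.2 _) ?_
    rw [orderOf_pow' _ (pow_ne_zero _ two_ne_zero), hkm,
      Nat.gcd_eq_right (dvd_mul_right (2 ^ k) m), Nat.mul_div_cancel_left _ (by positivity)]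
    exact Nat.not_even_iff_odd.1 fun he => hm he.two_dvd
  exact (h.maxTwo H hH hSH).le

/-- A normalised 2-subgroup lies in `S`. -/
theorem le_of_normalized_two [Finite G] {S R : Subgroup G} (h : Ctx S) (hR : IsPGroup 2 R)
    (hS : S ≤ normalizer (R : Set G)) : R ≤ S := by
  have h1 : IsPGroup 2 (R ⊔ S : Subgroup G) := IsPGroup.to_sup_of_normal_left' hR h.isTwo hS
  rw [← h.maxTwo _ h1 le_sup_right]
  exact le_sup_left

/-- Maximality. -/
theorem eq_of_le [Finite G] {S E R : Subgroup G} (hE : Good S E) (hER : E ≤ R) (hRS : R ≤ S)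
    {g : G} (hg : g ∈ normalizer (R : Set G)) (hgS : g ∉ S) : R = E := by
  have hR : Fam S R := ⟨hRS, fun x hx hc => hER (hE.centric x hx fun e he => hc e (hER he)),
    g, hg, hgS⟩
  exact (Subgroup.eq_of_le_of_card_ge hER (hE.card_le R hR)).symm

/-- Squares of `S` lie in a good `E`. -/
theorem sq_mem [Finite G] {S E : Subgroup G} (h : Ctx S) (hE : Good S E) {r : G} (hr : r ∈ S) :
    r * r ∈ E := by
  set N := normalizer (E : Set G) with hN
  have hSN : S ≤ N := le_normalizer h hE.toFam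
  let R : Subgroup G :=
    { carrier := {g | g ∈ N ∧ ∀ u ∈ ctr E, ∃ w ∈ ctr E, g * u * g⁻¹ = u * (w * w)}
      one_mem' := ⟨one_mem _, fun u _ => ⟨1, one_mem _, by simp⟩⟩
      mul_mem' := by
        rintro a b ⟨haN, ha⟩ ⟨hbN, hb⟩
        refine ⟨mul_mem haN hbN, fun u hu => ?_⟩
        obtain ⟨w, hw, hw'⟩ := hb u hu
        obtain ⟨x, hx, hx'⟩ := ha u hu
        have hy : a * w * a⁻¹ ∈ ctr E := ctr_normalized haN hw
        refine ⟨x * (a * w * a⁻¹), mul_mem hx hy, ?_⟩
        have hc : Commute x (a * w * a⁻¹) := (mem_ctr.1 hx).2 _ (mem_ctr.1 hy).1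
        calc a * b * u * (a * b)⁻¹ = a * (b * u * b⁻¹) * a⁻¹ := by group
          _ = a * (u * (w * w)) * a⁻¹ := by rw [hw']
          _ = (a * u * a⁻¹) * ((a * w * a⁻¹) * (a * w * a⁻¹)) := by group
          _ = u * ((x * x) * ((a * w * a⁻¹) * (a * w * a⁻¹))) := by rw [hx']; group
          _ = _ := by rw [hc.mul_mul_mul_comm]
      inv_mem' := by
        rintro a ⟨haN, ha⟩
        refine ⟨inv_mem haN, fun u hu => ?_⟩
        have hu' : a⁻¹ * u * a⁻¹⁻¹ ∈ ctr E := ctr_normalized (inv_mem haN) hu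
        obtain ⟨w, hw, hw'⟩ := ha _ hu'
        refine ⟨w⁻¹, inv_mem hw, ?_⟩
        have e : u = a⁻¹ * u * a⁻¹⁻¹ * (w * w) := by
          rw [← hw']; group
        calc a⁻¹ * u * a⁻¹⁻¹ = (a⁻¹ * u * a⁻¹⁻¹ * (w * w)) * (w⁻¹ * w⁻¹) := by group
          _ = _ := by rw [← e] }
  have hER : E ≤ R := fun e he => ⟨Subgroup.le_normalizer he, fun u hu => ⟨1, one_mem _, by
    rw [← ((mem_ctr.1 hu).2 e he).eq]; simp⟩⟩
  have hRN : N ≤ normalizer (R : Set G) := by
    have key : ∀ k ∈ N, ∀ g ∈ R, k * g * k⁻¹ ∈ R := by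
      rintro k hk g ⟨hgN, hg⟩
      refine ⟨mul_mem (mul_mem hk hgN) (inv_mem hk), fun u hu => ?_⟩
      obtain ⟨w, hw, hw'⟩ := hg _ (ctr_normalized (inv_mem hk) hu)
      refine ⟨k * w * k⁻¹, ctr_normalized hk hw, ?_⟩
      calc k * g * k⁻¹ * u * (k * g * k⁻¹)⁻¹
          = k * (g * (k⁻¹ * u * k⁻¹⁻¹) * g⁻¹) * k⁻¹ := by group
        _ = _ := by rw [hw']; group
    intro k hk
    refine mem_normalizer_iff.2 fun g => ⟨key k hk g, fun hg => ?_⟩
    have := key k⁻¹ (inv_mem hk) _ hg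
    rwa [show k⁻¹ * (k * g * k⁻¹) * k⁻¹⁻¹ = g by group] at this
  have hrR : r * r ∈ R := by
    refine ⟨hSN (mul_mem hr hr), fun u hu => ?_⟩
    have hc := comm_mem_center h hr (hE.le (mem_ctr.1 hu).1)
    refine ⟨⁅r, u⁆, center_le_ctr hE.toFam hc, ?_⟩
    have h1 : ∀ c, c ∈ S → Commute ⁅r, u⁆ c := fun c hc' => h.classTwo r hr u (hE.le (mem_ctr.1 hu).1) c hc'
    have e : r * u * r⁻¹ = ⁅r, u⁆ * u := by rw [commutatorElement_def]; group
    calc r * r * u * (r * r)⁻¹ = r * (r * u * r⁻¹) * r⁻¹ := by group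
      _ = r * (⁅r, u⁆ * u) * r⁻¹ := by rw [e]
      _ = (r * ⁅r, u⁆ * r⁻¹) * (r * u * r⁻¹) := by group
      _ = ⁅r, u⁆ * (⁅r, u⁆ * u) := by rw [← (h1 r hr).eq, mul_inv_cancel_right, e]
      _ = u * (⁅r, u⁆ * ⁅r, u⁆) := by
          rw [← mul_assoc]
          exact ((h1 u (hE.le (mem_ctr.1 hu).1)).mul_left (h1 u (hE.le (mem_ctr.1 hu).1))).eq
  -- elements of odd order of `R` are trivial
  have hodd : ∀ g ∈ R, Odd (orderOf g) → g = 1 := by
    rintro g ⟨-, hg⟩ ho
    have it : ∀ j : ℕ, ∀ u ∈ ctr E, ∃ w ∈ ctr E,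
        g ^ 2 ^ j * u * (g ^ 2 ^ j)⁻¹ = u * w ^ 2 ^ (j + 1) := by
      intro j
      induction j with
      | zero =>
        intro u hu
        obtain ⟨w, hw, e⟩ := hg u hu
        exact ⟨w, hw, by simpa [sq] using e⟩
      | succ j ih =>
        intro u hu
        obtain ⟨w, hw, e⟩ := ih u hu
        obtain ⟨x, hx, e'⟩ := ih w hw
        have hwx : Commute w x := (mem_ctr.1 hw).2 x (mem_ctr.1 hx).1
        refine ⟨w * x ^ 2 ^ j, mul_mem hw (pow_mem hx _), ?_⟩
        have hp : g ^ 2 ^ (j + 1) = g ^ 2 ^ j * g ^ 2 ^ j := by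
          rw [← pow_add, pow_succ, Nat.mul_two]
        rw [hp]
        calc g ^ 2 ^ j * g ^ 2 ^ j * u * (g ^ 2 ^ j * g ^ 2 ^ j)⁻¹
            = g ^ 2 ^ j * (g ^ 2 ^ j * u * (g ^ 2 ^ j)⁻¹) * (g ^ 2 ^ j)⁻¹ := by group
          _ = g ^ 2 ^ j * (u * w ^ 2 ^ (j + 1)) * (g ^ 2 ^ j)⁻¹ := by rw [e]
          _ = (g ^ 2 ^ j * u * (g ^ 2 ^ j)⁻¹) * (g ^ 2 ^ j * w ^ 2 ^ (j + 1) * (g ^ 2 ^ j)⁻¹) := by
              group
          _ = u * w ^ 2 ^ (j + 1) * (g ^ 2 ^ j * w * (g ^ 2 ^ j)⁻¹) ^ 2 ^ (j + 1) := by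
              rw [conj_pow, e]
          _ = u * (w ^ 2 ^ (j + 1) * (w * x ^ 2 ^ (j + 1)) ^ 2 ^ (j + 1)) := by
              rw [e', mul_assoc]
          _ = u * (w * x ^ 2 ^ j) ^ 2 ^ (j + 1 + 1) := by
              rw [(hwx.pow_right _).mul_pow, (hwx.pow_right _).mul_pow, ← mul_assoc (w ^ 2 ^ (j + 1)),
                ← pow_add, ← pow_mul, ← pow_mul]
              congr 3 <;> ring
    obtain ⟨k, hk⟩ : ∃ k : ℕ, ∀ x ∈ ctr E, x ^ 2 ^ k = 1 := by
      obtain ⟨k, hk⟩ := IsPGroup.iff_card.1 h.isTwo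
      refine ⟨k, fun x hx => ?_⟩
      have := pow_card_eq_one' (G := S) (x := ⟨x, hE.le (mem_ctr.1 hx).1⟩)
      rw [hk] at this
      exact congrArg Subtype.val this
    have hcent : ∀ u ∈ ctr E, Commute (g ^ 2 ^ k) u := by
      intro u hu
      obtain ⟨w, hw, e⟩ := it k u hu
      rw [pow_succ, pow_mul, hk w hw, one_pow, mul_one] at e
      exact mul_inv_eq_iff_eq_mul.1 e
    have hgS : g ^ 2 ^ k ∈ S := h.centZ _ fun z hz => hcent z (center_le_ctr hE.toFam hz)
    obtain ⟨i, hi⟩ := IsPGroup.iff_orderOf.1 h.isTwo ⟨_, hgS⟩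
    rw [Subgroup.orderOf_mk] at hi
    have h1 : g ^ (2 ^ k * 2 ^ i) = 1 := by
      rw [pow_mul, ← hi, pow_orderOf_eq_one]
    rw [← orderOf_eq_one_iff]
    refine Nat.eq_one_of_dvd_coprimes (a := orderOf g) (b := 2 ^ (k + i)) ?_ dvd_rfl ?_
    · exact (Nat.coprime_two_right.2 ho).pow_right _
    · rw [pow_add]; exact orderOf_dvd_of_pow_eq_one h1
  have hR2 : IsPGroup 2 R := by
    intro g
    obtain ⟨k, m, hm, hkm⟩ := Nat.exists_eq_pow_mul_and_not_dvd (n := orderOf (g : G))
      (orderOf_pos (g : G)).ne' 2 (by norm_num)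
    refine ⟨k, Subtype.ext ?_⟩
    rw [SubmonoidClass.coe_pow, OneMemClass.coe_one]
    refine hodd _ (pow_mem g.2 _) ?_
    rw [orderOf_pow' _ (pow_ne_zero _ two_ne_zero), hkm,
      Nat.gcd_eq_right (dvd_mul_right (2 ^ k) m), Nat.mul_div_cancel_left _ (by positivity)]
    exact Nat.not_even_iff_odd.1 fun he => hm he.two_dvd
  obtain ⟨g, hgN, hgS⟩ := hE.outside
  rw [← eq_of_le hE hER (le_of_normalized_two h hR2 (hSN.trans hRN)) (hRN hgN) hgS]
  exact hrR

/-- A good member has index two in `S`. -/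
theorem inv_mul_mem [Finite G] {S E : Subgroup G} (h : Ctx S) (hE : Good S E) {s t : G}
    (hs : s ∈ S) (hsE : s ∉ E) (ht : t ∈ S) (htE : t ∉ E) : s⁻¹ * t ∈ E := by
  by_contra hne
  set N := normalizer (E : Set G) with hN
  have hSN : S ≤ N := le_normalizer h hE.toFam
  haveI hEn : (E.subgroupOf N).Normal := normal_subgroupOf_of_le_normalizer le_rfl
  let π := QuotientGroup.mk' (E.subgroupOf N)
  have hπ : ∀ x : N, π x = 1 ↔ (x : G) ∈ E := fun x => by
    rw [QuotientGroup.mk'_apply, QuotientGroup.eq_one_iff, mem_subgroupOf]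
  -- centralisers of elements of `S` outside `E`
  have hcc : ∀ x : N, (x : G) ∈ S → (x : G) ∉ E → ∀ y : N, π y * π x = π x * π y → (y : G) ∈ S := by
    intro x hxS hxE y hy
    by_contra hyS
    have hEE : E ≤ E ⊔ zpowers (x : G) := le_sup_left
    have hle : E ⊔ zpowers (x : G) ≤ S := sup_le hE.le (zpowers_le.2 hxS)
    have hconj : (y : G) * x * (y : G)⁻¹ ∈ E ⊔ zpowers (x : G) := by
      have h1 : π (x⁻¹ * (y * x * y⁻¹)) = 1 := by
        rw [map_mul, map_mul, map_mul, map_inv, map_inv, hy]; group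
      have h2 := (hπ _).1 h1
      push_cast at h2
      have := mul_mem (mem_sup_right (mem_zpowers (x : G))) (hEE h2)
      rwa [mul_inv_cancel_left] at this
    have hnorm : (y : G) ∈ normalizer ((E ⊔ zpowers (x : G) : Subgroup G) : Set G) := by
      have hmap : (E ⊔ zpowers (x : G)).map (MulAut.conj (y : G)).toMonoidHom ≤
          E ⊔ zpowers (x : G) := by
        rw [Subgroup.map_sup, sup_le_iff]
        constructor
        · rintro _ ⟨e, he, rfl⟩
          exact hEE ((mem_normalizer_iff.1 y.2 e).1 he)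
        · rw [MonoidHom.map_zpowers, zpowers_le]
          exact hconj
      have heq := Subgroup.eq_of_le_of_card_ge hmap (le_of_eq
        (Subgroup.card_map_of_injective (MulAut.conj (y : G)).injective).symm)
      refine mem_normalizer_iff.2 fun e => ⟨fun he => hmap ⟨e, he, rfl⟩, fun he => ?_⟩
      rw [← heq] at he
      obtain ⟨e', he', h'⟩ := he
      rwa [← (MulAut.conj (y : G)).injective h']
    have := eq_of_le hE hEE hle hnorm hyS
    exact hxE (this ▸ mem_sup_right (mem_zpowers (x : G)))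
  have habel : ∀ x y : N, (x : G) ∈ S → (y : G) ∈ S → π x * π y = π y * π x := by
    intro x y hx hy
    rw [← commutatorElement_eq_one_iff_mul_comm, ← map_commutatorElement, hπ]
    exact center_le hE.toFam (comm_mem_center h hx hy)
  let s' : N := ⟨s, hSN hs⟩
  let t' : N := ⟨t, hSN ht⟩
  -- `s` and `t` are not conjugate modulo `E`
  have hnc : ∀ y : N, π y * π s' * (π y)⁻¹ ≠ π t' := by
    intro y hy
    have hyS : (y : G) ∈ S := by
      refine h.selfNorm ?_
      have key : ∀ z ∈ S, (y : G)⁻¹ * z * y ∈ S := by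
        intro z hz
        have := hcc s' hs hsE (y⁻¹ * ⟨z, hSN hz⟩ * y) (by
          have h1 := habel ⟨z, hSN hz⟩ t' hz ht
          rw [← hy] at h1
          simp only [map_mul, map_inv]
          calc (π y)⁻¹ * π ⟨z, hSN hz⟩ * π y * π s'
              = (π y)⁻¹ * (π ⟨z, hSN hz⟩ * (π y * π s' * (π y)⁻¹)) * π y := by group
            _ = (π y)⁻¹ * (π y * π s' * (π y)⁻¹ * π ⟨z, hSN hz⟩) * π y := by rw [h1]
            _ = _ := by group)
        simpa using this
      have hmap : S.map (MulAut.conj (y : G)⁻¹).toMonoidHom ≤ S := by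
        rintro _ ⟨z, hz, rfl⟩
        simpa using key z hz
      have heq := Subgroup.eq_of_le_of_card_ge hmap (le_of_eq
        (Subgroup.card_map_of_injective (MulAut.conj (y : G)⁻¹).injective).symm)
      refine inv_mem_iff.1 (mem_normalizer_iff.2 fun z => ⟨fun hz => by simpa using key z hz,
        fun hz => ?_⟩)
      rw [← heq] at hz
      obtain ⟨z', hz', h'⟩ := hz
      rwa [← (MulAut.conj (y : G)⁻¹).injective (a₁ := z') (a₂ := z) h']
    rw [habel y s' hyS hs, mul_inv_cancel_right] at hy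
    apply hne
    have : π (s'⁻¹ * t') = 1 := by rw [map_mul, map_inv, hy, inv_mul_cancel]
    simpa [s', t'] using (hπ _).1 this
  -- every conjugate of `t` lies in `S`
  have hall : ∀ y : N, (y : G) * t * (y : G)⁻¹ ∈ S := by
    intro y
    set a := π s' with ha
    set b := π y * π t' * (π y)⁻¹ with hb
    have ha2 : a * a = 1 := by rw [ha, ← map_mul, hπ]; exact sq_mem h hE hs
    have ht2 : π t' * π t' = 1 := by rw [← map_mul, hπ]; exact sq_mem h hE ht
    have hb2 : b * b = 1 := by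
      rw [hb, show π y * π t' * (π y)⁻¹ * (π y * π t' * (π y)⁻¹)
        = π y * (π t' * π t') * (π y)⁻¹ by group, ht2]
      group
    have hai : a⁻¹ = a := inv_eq_of_mul_eq_one_right ha2
    have hbi : b⁻¹ = b := inv_eq_of_mul_eq_one_right hb2
    have hca : ∀ i : ℕ, a * (a * b) ^ i = ((a * b) ^ i)⁻¹ * a := by
      intro i
      induction i with
      | zero => simp
      | succ i ih =>
        calc a * (a * b) ^ (i + 1) = a * (a * b) ^ i * (a * b) := by rw [pow_succ, mul_assoc]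
          _ = ((a * b) ^ i)⁻¹ * b := by rw [ih, mul_assoc, ← mul_assoc a a, ha2, one_mul]
          _ = (a * b * (a * b) ^ i)⁻¹ * (a * b * b) := by
              rw [mul_assoc a b b, hb2, mul_one, mul_inv_rev, mul_assoc, mul_inv_rev, hbi, hai,
                mul_assoc, ha2, mul_one]
          _ = ((a * b) ^ (i + 1))⁻¹ * a := by rw [← pow_succ', mul_assoc a b b, hb2, mul_one]
    rcases Nat.even_or_odd (orderOf (a * b)) with ⟨m, hm⟩ | ⟨m, hm⟩
    · set c := (a * b) ^ m with hc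
      have hcc2 : c * c = 1 := by rw [hc, ← pow_add, ← hm, pow_orderOf_eq_one]
      have hci : c⁻¹ = c := inv_eq_of_mul_eq_one_right hcc2
      have hc1 : c ≠ 1 := by
        intro h1
        have hpos : 0 < orderOf (a * b) := orderOf_pos _
        have := Nat.le_of_dvd (by omega) (orderOf_dvd_of_pow_eq_one h1)
        omega
      have hcomm : a * c = c * a := by rw [hc, hca, hci]
      have hcb : b * c = c * b := by
        have h1 : Commute (a * b) c := Commute.self_pow _ _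
        have h2 : Commute a c := hcomm
        have := (h2.inv_left.mul_left h1).eq
        rwa [inv_mul_cancel_left] at this
      obtain ⟨cc, hcc'⟩ := QuotientGroup.mk'_surjective (E.subgroupOf N) c
      have hccS : (cc : G) ∈ S := hcc s' hs hsE cc (by rw [show π cc = c from hcc']; exact hcomm.symm)
      have hccE : (cc : G) ∉ E := fun h' => hc1 (by rw [← hcc']; exact (hπ cc).2 h')
      have := hcc cc hccS hccE (y * t' * y⁻¹) (by
        rw [show π cc = c from hcc', map_mul, map_mul, map_inv, ← hb]; exact hcb)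
      simpa [t'] using this
    · exfalso
      obtain ⟨yy, hyy⟩ := QuotientGroup.mk'_surjective (E.subgroupOf N) ((π y)⁻¹ * (a * b) ^ m)
      refine hnc yy ?_
      rw [show π yy = (π y)⁻¹ * (a * b) ^ m from hyy]
      have h1 : (a * b) ^ m * a * ((a * b) ^ m)⁻¹ = b := by
        have e1 : (a * b) ^ m * a = a * ((a * b) ^ m)⁻¹ := by
          have := hca m
          calc (a * b) ^ m * a = a * a * ((a * b) ^ m * a) := by rw [ha2, one_mul]
            _ = a * (a * (a * b) ^ m) * a := by group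
            _ = a * ((a * b) ^ m)⁻¹ * (a * a) := by rw [this]; group
            _ = _ := by rw [ha2, mul_one]
        have e2 : (a * b) ^ (m + m + 1) = 1 := by
          rw [show m + m + 1 = orderOf (a * b) by omega, pow_orderOf_eq_one]
        calc (a * b) ^ m * a * ((a * b) ^ m)⁻¹ = a * ((a * b) ^ (m + m))⁻¹ := by
              rw [e1, pow_add, mul_inv_rev, mul_assoc]
          _ = a * (a * b) := by
              rw [pow_succ, mul_eq_one_iff_eq_inv] at e2
              rw [e2, inv_inv]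
          _ = b := by rw [← mul_assoc, ha2, one_mul]
      calc (π y)⁻¹ * (a * b) ^ m * a * ((π y)⁻¹ * (a * b) ^ m)⁻¹
          = (π y)⁻¹ * ((a * b) ^ m * a * ((a * b) ^ m)⁻¹) * π y := by group
        _ = π t' := by rw [h1, hb]; group
  -- the normal closure of `t` and `E`
  set T := E ⊔ closure (Set.range fun y : N => (y : G) * t * (y : G)⁻¹) with hT
  have hTS : T ≤ S := sup_le hE.le ((closure_le _).2 (by rintro _ ⟨y, rfl⟩; exact hall y))
  have key : ∀ g ∈ N, T.map (MulAut.conj g).toMonoidHom ≤ T := by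
    intro g hg
    rw [hT, Subgroup.map_sup, MonoidHom.map_closure, sup_le_iff]
    constructor
    · rintro _ ⟨e, he, rfl⟩
      exact mem_sup_left ((mem_normalizer_iff.1 hg e).1 he)
    · refine (closure_le _).2 ?_
      rintro _ ⟨_, ⟨y, rfl⟩, rfl⟩
      refine mem_sup_right (subset_closure ⟨⟨g, hg⟩ * y, ?_⟩)
      simp only [Subgroup.coe_mul, MulEquiv.coe_toMonoidHom, MulAut.conj_apply]
      group
  obtain ⟨g, hgN, hgS⟩ := hE.outside
  have hgT : g ∈ normalizer (T : Set G) := by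
    refine mem_normalizer_iff.2 fun e => ⟨fun he => key g hgN ⟨e, he, rfl⟩, fun he => ?_⟩
    have := key g⁻¹ (inv_mem hgN) ⟨_, he, rfl⟩
    simpa [mul_assoc] using this
  have hTE := eq_of_le hE (le_sup_left : E ≤ T) hTS hgT hgS
  apply htE
  rw [← hTE]
  exact mem_sup_right (subset_closure ⟨1, by simp⟩)

/-- A normal subgroup of the normaliser of a member containing `S` is everything. -/
theorem normalizer_le_of [Finite G] {S E : Subgroup G} (h : Ctx S) (H : Subgroup G)
    (hHN : H ≤ normalizer (E : Set G)) (hSH : S ≤ H)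
    (hn : ∀ g ∈ normalizer (E : Set G), ∀ x ∈ H, g * x * g⁻¹ ∈ H) :
    normalizer (E : Set G) ≤ H := by
  haveI : Fact (Nat.Prime 2) := ⟨Nat.prime_two⟩
  intro g hg
  have hS2 : IsPGroup 2 (S.subgroupOf H) := h.isTwo.of_equiv (subgroupOfEquivOfLe hSH).symm
  have hmax : ∀ T : Subgroup H, IsPGroup 2 T → S.subgroupOf H ≤ T → T = S.subgroupOf H := by
    intro T hT hle
    have h1 := h.maxTwo (T.map H.subtype) (hT.map _) (fun x hx =>
      ⟨⟨x, hSH hx⟩, hle (mem_subgroupOf.2 hx), rfl⟩)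
    ext x
    rw [mem_subgroupOf, ← h1]
    exact ⟨fun hx => ⟨x, hx, rfl⟩, fun ⟨y, hy, hyx⟩ => by rwa [← Subtype.ext hyx]⟩
  let P : Sylow 2 H := ⟨S.subgroupOf H, hS2, fun {T} hT hle => hmax T hT hle⟩
  let f : H →* H :=
    { toFun := fun x => ⟨g * x * g⁻¹, hn g hg x x.2⟩
      map_one' := Subtype.ext (by simp)
      map_mul' := fun x y => Subtype.ext (by simp [mul_assoc]) }
  have hf : Function.Injective f := fun x y hxy => by
    have := congrArg Subtype.val hxy
    exact Subtype.ext (by simpa [f] using this)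
  have hfP : IsPGroup 2 ((S.subgroupOf H).map f) := hS2.map f
  obtain ⟨Q, hQ⟩ := hfP.exists_le_sylow
  obtain ⟨c, hc⟩ := MulAction.exists_smul_eq H P Q
  have hmem : ∀ s ∈ S, (c : G)⁻¹ * (g * s * g⁻¹) * c ∈ S := by
    intro s hs
    have h1 : f ⟨s, hSH hs⟩ ∈ (Q : Subgroup H) := hQ ⟨⟨s, hSH hs⟩, mem_subgroupOf.2 hs, rfl⟩
    rw [← hc] at h1
    rw [Sylow.coe_subgroup_smul, Subgroup.mem_pointwise_smul_iff_inv_smul_mem] at h1
    simpa [P, f, MulAut.smul_def, mul_assoc] using mem_subgroupOf.1 h1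
  have hnorm : (c : G)⁻¹ * g ∈ S := by
    refine h.selfNorm ?_
    have hmap : S.map (MulAut.conj ((c : G)⁻¹ * g)).toMonoidHom ≤ S := by
      rintro _ ⟨z, hz, rfl⟩
      simpa [mul_assoc] using hmem z hz
    have heq := Subgroup.eq_of_le_of_card_ge hmap (le_of_eq
      (Subgroup.card_map_of_injective (MulAut.conj ((c : G)⁻¹ * g)).injective).symm)
    refine mem_normalizer_iff.2 fun z => ⟨fun hz => hmap ⟨z, hz, rfl⟩, fun hz => ?_⟩
    rw [← heq] at hz
    obtain ⟨z', hz', h'⟩ := hz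
    rwa [← (MulAut.conj ((c : G)⁻¹ * g)).injective h']
  have := mul_mem c.2 (hSH hnorm)
  rwa [mul_inv_cancel_left] at this

/-- The normaliser centralises what it normalises inside `Z(S)`. -/
theorem centralizes [Finite G] {S E : Subgroup G} (h : Ctx S) (hE : Fam S E) (X : Set G)
    (hX : X ⊆ (S ⊓ centralizer (S : Set G) : Subgroup G))
    (hn : ∀ g ∈ normalizer (E : Set G), ∀ x ∈ X, g * x * g⁻¹ ∈ X) :
    ∀ g ∈ normalizer (E : Set G), ∀ x ∈ X, g * x = x * g := by
  have := normalizer_le_of h (normalizer (E : Set G) ⊓ centralizer X) inf_le_left (E := E)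
    (le_inf (le_normalizer h hE) fun s hs => Subgroup.mem_centralizer_iff.2 fun x hx =>
      (Subgroup.mem_centralizer_iff.1 (hX hx).2 s hs).symm) (by
    intro g hg k hk
    refine Subgroup.mem_inf.2 ⟨mul_mem (mul_mem hg hk.1) (inv_mem hg),
      Subgroup.mem_centralizer_iff.2 fun x hx => ?_⟩
    have hx' := hn g⁻¹ (inv_mem hg) x hx
    rw [inv_inv] at hx'
    have h1 := Subgroup.mem_centralizer_iff.1 hk.2 _ hx'
    calc x * (g * k * g⁻¹) = g * (g⁻¹ * x * g * k) * g⁻¹ := by group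
      _ = g * (k * (g⁻¹ * x * g)) * g⁻¹ := by rw [h1]
      _ = g * k * g⁻¹ * x := by group)
  exact fun g hg x hx => (Subgroup.mem_centralizer_iff.1 (this hg).2 x hx).symm

/-- The normaliser of `E` centralises `E` modulo the centre of `E`. -/
theorem commutator_mem_ctr [Finite G] {S E : Subgroup G} (h : Ctx S) (hE : Fam S E) {g e : G}
    (hg : g ∈ normalizer (E : Set G)) (he : e ∈ E) : ⁅g, e⁆ ∈ ctr E := by
  let H : Subgroup G :=
    { carrier := {g | g ∈ normalizer (E : Set G) ∧ ∀ e ∈ E, ⁅g, e⁆ ∈ ctr E}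
      one_mem' := ⟨one_mem _, fun e _ => by simp⟩
      mul_mem' := by
        rintro a b ⟨ha, ha'⟩ ⟨hb, hb'⟩
        refine ⟨mul_mem ha hb, fun e he => ?_⟩
        rw [show ⁅a * b, e⁆ = a * ⁅b, e⁆ * a⁻¹ * ⁅a, e⁆ by simp [commutatorElement_def]; group]
        exact mul_mem (ctr_normalized ha (hb' e he)) (ha' e he)
      inv_mem' := by
        rintro a ⟨ha, ha'⟩
        refine ⟨inv_mem ha, fun e he => ?_⟩
        rw [show ⁅a⁻¹, e⁆ = a⁻¹ * (⁅a, e⁆)⁻¹ * a⁻¹⁻¹ by simp [commutatorElement_def]; group]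
        exact ctr_normalized (inv_mem ha) (inv_mem (ha' e he)) }
  refine ((normalizer_le_of h H (fun x hx => hx.1) (fun s hs => ⟨le_normalizer h hE hs,
    fun e he => center_le_ctr hE (comm_mem_center h hs (hE.le he))⟩) ?_) hg).2 e he
  rintro k hk x ⟨hx, hx'⟩
  refine ⟨mul_mem (mul_mem hk hx) (inv_mem hk), fun e he => ?_⟩
  have he' : k⁻¹ * e * k⁻¹⁻¹ ∈ E := (mem_normalizer_iff.1 (inv_mem hk) e).1 he
  rw [show ⁅k * x * k⁻¹, e⁆ = k * ⁅x, k⁻¹ * e * k⁻¹⁻¹⁆ * k⁻¹ by
    simp [commutatorElement_def]; group]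
  exact ctr_normalized hk (hx' _ he')

end Cfsg.Agent.Lib.AInvMaximal21.Centric
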