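import Cfsg.Agent.Lib.AInvMaximal21.Centric

/-!
# Two good members with non-commuting centres

If the centre of a good member `E` is not contained in a good member `F`, then `F` is determined
by `E`.
-/

set_option autoImplicit false

open Subgroup
open scoped commutatorElement

namespace Cfsg.Agent.Lib.AInvMaximal21.Centric

variable {G : Type*} [Group G] [Finite G] {S E F : Subgroup G}

theorem exists_ctr_not_center (h : Ctx S) (hE : Fam S E) :
    ∃ u ∈ ctr E, u ∉ S ⊓ centralizer (S : Set G) := by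
  by_contra hne
  push Not at hne
  have heq : ctr E = S ⊓ centralizer (S : Set G) := le_antisymm hne (center_le_ctr hE)
  obtain ⟨g, hg, hgS⟩ := hE.outside
  refine hgS (h.normZ (Subgroup.mem_normalizer_iff.2 fun x => ⟨fun hx => ?_, fun hx => ?_⟩))
  · rw [← heq] at hx ⊢
    exact ctr_normalized hg hx
  · rw [← heq] at hx ⊢
    have := ctr_normalized (inv_mem hg) hx
    rwa [show g⁻¹ * (g * x * g⁻¹) * g⁻¹⁻¹ = x by group] at this

theorem ne_center_of_clash (hE : Fam S E) (hF : Fam S F) {u : G} (hu : u ∈ ctr E) (huF : u ∉ F) :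
    u ∉ S ⊓ centralizer (S : Set G) := fun hc => huF (center_le hF hc)

theorem not_mem_center_of_outside (hE : Fam S E) {v : G} (hvE : v ∉ E) :
    v ∉ S ⊓ centralizer (S : Set G) := fun hc => hvE (center_le hE hc)

/-- Clashing is symmetric. -/
theorem clash_symm (h : Ctx S) (hE : Good S E) (hF : Good S F) {u : G} (hu : u ∈ ctr E)
    (huF : u ∉ F) : ∃ v ∈ ctr F, v ∉ E := by
  obtain ⟨v, hv, hvZ⟩ := exists_ctr_not_center h hF.toFam
  refine ⟨v, hv, fun hvE => hvZ ⟨hF.le (mem_ctr.1 hv).1, Subgroup.mem_centralizer_iff.2 fun x hx => ?_⟩⟩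
  by_cases hxF : x ∈ F
  · exact ((mem_ctr.1 hv).2 x hxF).eq.symm
  · have h1 := inv_mul_mem h hF (hE.le (mem_ctr.1 hu).1) huF hx hxF
    have huv : Commute v u := ((mem_ctr.1 hu).2 v hvE).symm
    have := huv.mul_right ((mem_ctr.1 hv).2 _ h1)
    rw [mul_inv_cancel_left] at this
    exact this.eq.symm

/-- The commutator with a fixed element of the clash takes two values. -/
theorem comm_two (h : Ctx S) (hE : Good S E) {u v : G} (hu : u ∈ ctr E) (hv : v ∈ S)
    (hvE : v ∉ E) {x : G} (hx : x ∈ S) : ⁅u, x⁆ = 1 ∨ ⁅u, x⁆ = ⁅u, v⁆ := by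
  by_cases hxE : x ∈ E
  · exact Or.inl (commutatorElement_eq_one_iff_mul_comm.2 ((mem_ctr.1 hu).2 x hxE).eq)
  · right
    have h1 := inv_mul_mem h hE hv hvE hx hxE
    have h2 : ⁅u, v⁻¹ * x⁆ = 1 :=
      commutatorElement_eq_one_iff_mul_comm.2 ((mem_ctr.1 hu).2 _ h1).eq
    calc ⁅u, x⁆ = ⁅u, v * (v⁻¹ * x)⁆ := by rw [mul_inv_cancel_left]
      _ = ⁅u, v⁆ * (v * ⁅u, v⁻¹ * x⁆ * v⁻¹) := by simp [commutatorElement_def]; group
      _ = ⁅u, v⁆ := by rw [h2]; group

theorem comm_ne_one (h : Ctx S) (hE : Good S E) {u v : G} (hu : u ∈ ctr E)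
    (huZ : u ∉ S ⊓ centralizer (S : Set G)) (hv : v ∈ S) (hvE : v ∉ E) : ⁅u, v⁆ ≠ 1 := by
  intro h1
  refine huZ ⟨hE.le (mem_ctr.1 hu).1, Subgroup.mem_centralizer_iff.2 fun x hx => ?_⟩
  rcases comm_two h hE hu hv hvE hx with h2 | h2
  · exact (commutatorElement_eq_one_iff_mul_comm.1 h2).symm
  · rw [h1] at h2
    exact (commutatorElement_eq_one_iff_mul_comm.1 h2).symm

/-- All that one needs about a clash. -/
theorem clash_data (h : Ctx S) (hE : Good S E) (hF : Good S F) {u : G} (hu : u ∈ ctr E)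
    (huF : u ∉ F) :
    ∃ v ∈ ctr F, v ∉ E ∧ v ∉ S ⊓ centralizer (S : Set G) ∧
      (∀ a ∈ ctr E, a ∈ S ⊓ centralizer (S : Set G) ∨ u⁻¹ * a ∈ S ⊓ centralizer (S : Set G)) ∧
      ⁅u, v⁆ * ⁅u, v⁆ = 1 := by
  obtain ⟨v, hv, hvE⟩ := clash_symm h hE hF hu huF
  have hvS := hF.le (mem_ctr.1 hv).1
  have huS := hE.le (mem_ctr.1 hu).1
  have huZ := ne_center_of_clash hE.toFam hF.toFam hu huF
  refine ⟨v, hv, hvE, not_mem_center_of_outside hE.toFam hvE, fun a ha => ?_, ?_⟩
  · have haS := hE.le (mem_ctr.1 ha).1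
    have key : ∀ b ∈ ctr E, ⁅b, v⁆ = 1 → b ∈ S ⊓ centralizer (S : Set G) := fun b hb hb1 => by
      by_contra hbZ
      exact comm_ne_one h hE hb hbZ hvS hvE hb1
    have hav : ⁅a, v⁆ = 1 ∨ ⁅a, v⁆ = ⁅u, v⁆ := by
      rcases comm_two h hF hv huS huF haS with h1 | h1
      · left; rw [← commutatorElement_inv, h1, inv_one]
      · right; rw [← commutatorElement_inv, h1, commutatorElement_inv]
    rcases hav with h1 | h1
    · exact Or.inl (key a ha h1)
    · refine Or.inr (key _ (mul_mem (inv_mem hu) ha) ?_)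
      have e : ⁅u⁻¹ * a, v⁆ = u⁻¹ * ⁅a, v⁆ * (⁅u, v⁆)⁻¹ * u := by
        simp [commutatorElement_def]; group
      rw [e, h1]; group
  · have h1 : ⁅u, v * v⁆ = 1 :=
      commutatorElement_eq_one_iff_mul_comm.2 ((mem_ctr.1 hu).2 _ (sq_mem h hE hvS)).eq
    rw [show ⁅u, v * v⁆ = ⁅u, v⁆ * (v * ⁅u, v⁆ * v⁻¹) by simp [commutatorElement_def]; group,
      ← (h.classTwo u huS v hvS v hvS).eq, mul_inv_cancel_right] at h1
    exact h1

/-- The value of the commutator is not fixed by the normaliser. -/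
theorem not_fixed (h : Ctx S) (hE : Good S E) {u v : G} (hu : u ∈ ctr E)
    (huZ : u ∉ S ⊓ centralizer (S : Set G)) (hv : v ∈ S) (hvE : v ∉ E)
    (hall : ∀ a ∈ ctr E, a ∈ S ⊓ centralizer (S : Set G) ∨ u⁻¹ * a ∈ S ⊓ centralizer (S : Set G))
    (hz2 : ⁅u, v⁆ * ⁅u, v⁆ = 1) :
    ∃ g ∈ normalizer (E : Set G), g * ⁅u, v⁆ * g⁻¹ ≠ ⁅u, v⁆ := by
  by_contra hne
  push Not at hne
  have huS := hE.le (mem_ctr.1 hu).1
  set z := ⁅u, v⁆ with hz
  let H : Subgroup G :=
    { carrier := {g | g ∈ normalizer (E : Set G) ∧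
        ∀ a ∈ ctr E, g * a * g⁻¹ = a ∨ g * a * g⁻¹ = z * a}
      one_mem' := ⟨one_mem _, fun a _ => Or.inl (by simp)⟩
      mul_mem' := by
        rintro x y ⟨hx, hx'⟩ ⟨hy, hy'⟩
        refine ⟨mul_mem hx hy, fun a ha => ?_⟩
        rcases hy' a ha with e | e <;> rcases hx' a ha with e' | e'
        · left; calc x * y * a * (x * y)⁻¹ = x * (y * a * y⁻¹) * x⁻¹ := by group
            _ = _ := by rw [e, e']
        · right; calc x * y * a * (x * y)⁻¹ = x * (y * a * y⁻¹) * x⁻¹ := by group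
            _ = _ := by rw [e, e']
        · right
          calc x * y * a * (x * y)⁻¹ = x * (y * a * y⁻¹) * x⁻¹ := by group
            _ = (x * z * x⁻¹) * (x * a * x⁻¹) := by rw [e]; group
            _ = _ := by rw [hne x hx, e']
        · left
          calc x * y * a * (x * y)⁻¹ = x * (y * a * y⁻¹) * x⁻¹ := by group
            _ = (x * z * x⁻¹) * (x * a * x⁻¹) := by rw [e]; group
            _ = _ := by rw [hne x hx, e', ← mul_assoc, hz2, one_mul]
      inv_mem' := by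
        rintro x ⟨hx, hx'⟩
        refine ⟨inv_mem hx, fun a ha => ?_⟩
        rcases hx' a ha with e | e
        · left; calc x⁻¹ * a * x⁻¹⁻¹ = x⁻¹ * (x * a * x⁻¹) * x := by rw [e]; group
            _ = _ := by group
        · right
          calc x⁻¹ * a * x⁻¹⁻¹ = z * (x⁻¹ * (z * a) * x) := by
                calc x⁻¹ * a * x⁻¹⁻¹ = (z * z) * (x⁻¹ * a * x) := by rw [hz2]; group
                  _ = z * ((x⁻¹ * z * x) * (x⁻¹ * a * x)) := by
                    rw [show x⁻¹ * z * x = z by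
                      have := hne x⁻¹ (inv_mem hx)
                      rwa [inv_inv] at this, mul_assoc]
                  _ = _ := by group
            _ = z * a := by rw [show x⁻¹ * (z * a) * x = a by rw [← e]; group] }
  have hN : normalizer (E : Set G) ≤ H := by
    refine normalizer_le_of h H (fun x hx => hx.1) (fun s hs => ⟨le_normalizer h hE.toFam hs, fun a ha => ?_⟩) ?_
    · rcases hall a ha with h1 | h1
      · left
        rw [Subgroup.mem_centralizer_iff.1 h1.2 s hs, mul_inv_cancel_right]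
      · rcases comm_two h hE hu hv hvE hs with h2 | h2
        · left
          have e1 : s * (u⁻¹ * a) = u⁻¹ * a * s := Subgroup.mem_centralizer_iff.1 h1.2 s hs
          have e2 := commutatorElement_eq_one_iff_mul_comm.1 h2
          calc s * a * s⁻¹ = s * u * (u⁻¹ * a) * s⁻¹ := by group
            _ = u * (s * (u⁻¹ * a)) * s⁻¹ := by rw [← e2, mul_assoc u s]
            _ = a := by rw [e1]; group
        · right
          have e1 : s * (u⁻¹ * a) = u⁻¹ * a * s := Subgroup.mem_centralizer_iff.1 h1.2 s hs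
          calc s * a * s⁻¹ = (⁅u, s⁆)⁻¹ * u * (s * (u⁻¹ * a) * s⁻¹) := by
                simp [commutatorElement_def]; group
            _ = z⁻¹ * a := by rw [h2, e1, hz]; group
            _ = z * a := by rw [inv_eq_of_mul_eq_one_right hz2]
    · rintro k hk x ⟨hx, hx'⟩
      refine ⟨mul_mem (mul_mem hk hx) (inv_mem hk), fun a ha => ?_⟩
      rcases hx' _ (ctr_normalized (inv_mem hk) ha) with e | e
      · left
        calc k * x * k⁻¹ * a * (k * x * k⁻¹)⁻¹ = k * (x * (k⁻¹ * a * k⁻¹⁻¹) * x⁻¹) * k⁻¹ := by group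
          _ = _ := by rw [e]; group
      · right
        calc k * x * k⁻¹ * a * (k * x * k⁻¹)⁻¹ = k * (x * (k⁻¹ * a * k⁻¹⁻¹) * x⁻¹) * k⁻¹ := by group
          _ = (k * z * k⁻¹) * a := by rw [e]; group
          _ = _ := by rw [hne k hk]
  obtain ⟨g, hg, hgS⟩ := hE.outside
  refine hgS (le_of_odd_trivial h (le_normalizer h hE.toFam) (fun x hx ho => ?_) hg)
  have hfix : ∀ a ∈ ctr E, Commute (x * x) a := by
    intro a ha
    refine mul_inv_eq_iff_eq_mul.1 ?_
    rcases (hN hx).2 a ha with e | e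
    · calc x * x * a * (x * x)⁻¹ = x * (x * a * x⁻¹) * x⁻¹ := by group
        _ = a := by rw [e, e]
    · calc x * x * a * (x * x)⁻¹ = x * (x * a * x⁻¹) * x⁻¹ := by group
        _ = (x * z * x⁻¹) * (x * a * x⁻¹) := by nth_rewrite 1 [e]; group
        _ = a := by rw [hne x hx, e, ← mul_assoc, hz2, one_mul]
  have hxS : x * x ∈ S := h.centZ _ fun c hc => hfix c (center_le_ctr hE.toFam hc)
  obtain ⟨i, hi⟩ := IsPGroup.iff_orderOf.1 h.isTwo ⟨_, hxS⟩
  rw [Subgroup.orderOf_mk] at hi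
  have h1 : x ^ (2 * 2 ^ i) = 1 := by
    rw [pow_mul, sq, ← hi, pow_orderOf_eq_one]
  rw [← orderOf_eq_one_iff]
  refine Nat.eq_one_of_dvd_coprimes (a := orderOf x) (b := 2 * 2 ^ i) ?_ dvd_rfl
    (orderOf_dvd_of_pow_eq_one h1)
  exact (Nat.coprime_two_right.2 ho).mul_right ((Nat.coprime_two_right.2 ho).pow_right _)

/-- There is an involution outside the centre of `S` in the centre of a clashing member. -/
theorem exists_involution (h : Ctx S) (hE : Good S E) (hF : Good S F) {u : G} (hu : u ∈ ctr E)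
    (huF : u ∉ F) : ∃ w ∈ ctr E, w ∉ S ⊓ centralizer (S : Set G) ∧ w ∉ F ∧ w * w = 1 := by
  obtain ⟨v, hv, hvE, -, hall, hz2⟩ := clash_data h hE hF hu huF
  have hvS := hF.le (mem_ctr.1 hv).1
  have huZ := ne_center_of_clash hE.toFam hF.toFam hu huF
  obtain ⟨g, hg, hgz⟩ := not_fixed h hE hu huZ hvS hvE hall hz2
  have hzc : ⁅u, v⁆ ∈ ctr E :=
    center_le_ctr hE.toFam (comm_mem_center h (hE.le (mem_ctr.1 hu).1) hvS)
  by_contra hne
  push Not at hne
  let X : Set G := {x | ∃ k ∈ normalizer (E : Set G), x = k * ⁅u, v⁆ * k⁻¹}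
  have hX : X ⊆ (S ⊓ centralizer (S : Set G) : Subgroup G) := by
    rintro _ ⟨k, hk, rfl⟩
    have hw := ctr_normalized hk hzc
    by_contra hwZ
    have hwF : k * ⁅u, v⁆ * k⁻¹ ∉ F := by
      intro hwF
      rcases hall _ hw with h1 | h1
      · exact hwZ h1
      · apply huF
        have := mul_mem hwF (inv_mem (center_le hF.toFam h1))
        rwa [show k * ⁅u, v⁆ * k⁻¹ * (u⁻¹ * (k * ⁅u, v⁆ * k⁻¹))⁻¹ = u by group] at this
    refine hne _ hw hwZ hwF ?_
    calc k * ⁅u, v⁆ * k⁻¹ * (k * ⁅u, v⁆ * k⁻¹) = k * (⁅u, v⁆ * ⁅u, v⁆) * k⁻¹ := by group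
      _ = 1 := by rw [hz2]; group
  have := centralizes h hE.toFam X hX (by
    rintro k hk _ ⟨l, hl, rfl⟩
    exact ⟨k * l, mul_mem hk hl, by group⟩) g hg ⁅u, v⁆ ⟨1, one_mem _, by simp⟩
  exact hgz (by rw [this, mul_inv_cancel_right])

/-- A good member clashes with at most one other. -/
theorem clash_unique {K : Subgroup G} (h : Ctx S) (hE : Good S E) (hF : Good S F) (hK : Good S K)
    {u₁ u₂ : G} (hu₁ : u₁ ∈ ctr E) (hu₁F : u₁ ∉ F) (hu₂ : u₂ ∈ ctr E) (hu₂K : u₂ ∉ K) :
    F = K := by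
  obtain ⟨u, hu, huZ, huF, hu2⟩ := exists_involution h hE hF hu₁ hu₁F
  obtain ⟨v', hv'0, hv'E, -, hall, hz2'⟩ := clash_data h hE hF hu huF
  have huK : u ∉ K := by
    intro huK
    rcases hall _ hu₂ with h1 | h1
    · exact hu₂K (center_le hK.toFam h1)
    · have := mul_mem huK (center_le hK.toFam h1)
      rw [mul_inv_cancel_left] at this
      exact hu₂K this
  obtain ⟨v₀, hv₀, hv₀E, -, -, -⟩ := clash_data h hE hF hu huF
  obtain ⟨w₀, hw₀, hw₀E, -, -, -⟩ := clash_data h hE hK hu huK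
  obtain ⟨v, hv, hvZ, hvE, hv2⟩ := exists_involution h hF hE hv₀ hv₀E
  obtain ⟨w, hw, hwZ, hwE, hw2⟩ := exists_involution h hK hE hw₀ hw₀E
  have hvS := hF.le (mem_ctr.1 hv).1
  have hwS := hK.le (mem_ctr.1 hw).1
  have huS := hE.le (mem_ctr.1 hu).1
  set z := ⁅u, v⁆ with hz
  have hz2 : z * z = 1 := by
    have h1 : ⁅u, v * v⁆ = 1 := by rw [hv2]; simp
    rw [show ⁅u, v * v⁆ = z * (v * z * v⁻¹) by rw [hz]; simp [commutatorElement_def]; group,
      ← (h.classTwo u huS v hvS v hvS).eq, mul_inv_cancel_right] at h1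
    exact h1
  obtain ⟨g, hg, hgz⟩ := not_fixed h hE hu huZ hvS hvE hall hz2
  have huw : ⁅u, w⁆ = z := (comm_two h hE hu hvS hvE hwS).resolve_left (comm_ne_one h hE hu huZ hwS hwE)
  have hzi : z⁻¹ = z := inv_eq_of_mul_eq_one_right hz2
  have hxE : v * w ∈ E := by
    have := inv_mul_mem h hE hvS hvE hwS hwE
    rwa [inv_eq_of_mul_eq_one_right hv2] at this
  have hev : ∀ e ∈ E, ∀ b ∈ ctr F, b ∉ E → ⁅u, b⁆ = z → ⁅e, b⁆ = 1 ∨ ⁅e, b⁆ = z := by
    intro e he b hb _ hub
    rcases comm_two h hF hb huS huF (hE.le he) with h1 | h1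
    · left; rw [← commutatorElement_inv, h1, inv_one]
    · right; rw [← commutatorElement_inv, h1, commutatorElement_inv, hub]
  have hew : ∀ e ∈ E, ⁅e, w⁆ = 1 ∨ ⁅e, w⁆ = z := by
    intro e he
    rcases comm_two h hK hw huS huK (hE.le he) with h1 | h1
    · left; rw [← commutatorElement_inv, h1, inv_one]
    · right; rw [← commutatorElement_inv, h1, commutatorElement_inv, huw]
  -- `z` is no commutator inside `E`
  have hnot : ∀ e₁ ∈ E, ∀ e₂ ∈ E, ⁅e₁, e₂⁆ ≠ z := by
    intro e₁ he₁ e₂ he₂ heq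
    let X : Set G := {x | ∃ a ∈ E, ∃ b ∈ E, x = ⁅a, b⁆}
    have := centralizes h hE.toFam X (by
      rintro _ ⟨a, ha, b, hb, rfl⟩
      exact comm_mem_center h (hE.le ha) (hE.le hb)) (by
      rintro k hk _ ⟨a, ha, b, hb, rfl⟩
      exact ⟨k * a * k⁻¹, (Subgroup.mem_normalizer_iff.1 hk a).1 ha, k * b * k⁻¹,
        (Subgroup.mem_normalizer_iff.1 hk b).1 hb, by simp [commutatorElement_def]; group⟩)
      g hg z ⟨e₁, he₁, e₂, he₂, heq.symm⟩
    exact hgz (by rw [this, mul_inv_cancel_right])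
  have hxc : v * w ∈ ctr E := by
    refine mem_ctr.2 ⟨hxE, fun e he => ?_⟩
    refine (commutatorElement_eq_one_iff_mul_comm.1 ?_).symm
    have e1 : ⁅e, v * w⁆ = ⁅e, v⁆ * ⁅e, w⁆ := by
      rw [show ⁅e, v * w⁆ = ⁅e, v⁆ * (v * ⁅e, w⁆ * v⁻¹) by simp [commutatorElement_def]; group,
        ← (h.classTwo e (hE.le he) w hwS v hvS).eq, mul_inv_cancel_right]
    have hno := hnot e he (v * w) hxE
    rcases hev e he v hv hvE rfl with a1 | a1 <;> rcases hew e he with a2 | a2 <;>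
      rw [a1, a2] at e1 <;> simp [hz2] at e1
    · exact e1
    · exact absurd e1 hno
    · exact absurd e1 hno
    · exact e1
  rcases hall _ hxc with hc | hc
  · refine (Subgroup.eq_of_le_of_card_ge (fun k hk => ?_) (hK.card_le _ hF.toFam)).symm
    by_contra hkF
    have h1 : ⁅k, w⁆ = 1 :=
      commutatorElement_eq_one_iff_mul_comm.2 ((mem_ctr.1 hw).2 k hk).eq.symm
    refine comm_ne_one h hF hv hvZ (hK.le hk) hkF (commutatorElement_eq_one_iff_mul_comm.2 ?_)
    have e1 : k * (v * w) = v * w * k := Subgroup.mem_centralizer_iff.1 hc.2 k (hK.le hk)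
    have e2 := commutatorElement_eq_one_iff_mul_comm.1 h1
    symm
    refine mul_right_cancel (b := w) ?_
    rw [mul_assoc, e1, mul_assoc v w k, ← e2, mul_assoc]
  · exfalso
    set c := u⁻¹ * (v * w) with hcdef
    have hcS : ∀ s ∈ S, Commute c s := fun s hs => (Subgroup.mem_centralizer_iff.1 hc.2 s hs).symm
    have hui : u⁻¹ = u := inv_eq_of_mul_eq_one_right hu2
    have hvi : v⁻¹ = v := inv_eq_of_mul_eq_one_right hv2
    have hvu : v * u * (v * u) = z := by
      calc v * u * (v * u) = v * u * v⁻¹ * u⁻¹ := by rw [hui, hvi, mul_assoc (v * u)]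
        _ = (⁅u, v⁆)⁻¹ := by simp [commutatorElement_def]; group
        _ = z := hzi
    have hwe : w = v * u * c := by
      rw [hcdef, mul_assoc, mul_inv_cancel_left, ← mul_assoc, hv2, one_mul]
    have hcc : c * c = z := by
      have h1 : v * u * c * (v * u * c) = 1 := by rw [← hwe, hw2]
      rw [(hcS (v * u) (mul_mem hvS huS)).mul_mul_mul_comm, hvu] at h1
      rw [← hzi]
      exact eq_inv_of_mul_eq_one_right h1
    let X : Set G := {x | ∃ a ∈ ctr E, x = a * a}
    have := centralizes h hE.toFam X (by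
      rintro _ ⟨a, ha, rfl⟩
      rcases hall a ha with ha' | ha'
      · exact mul_mem ha' ha'
      · have ea : a * a = (u⁻¹ * a) * (u⁻¹ * a) := by
          have hua : Commute u⁻¹ a := ((mem_ctr.1 hu).2 a (mem_ctr.1 ha).1).inv_left
          rw [hua.symm.mul_mul_mul_comm, hui, hu2, one_mul]
        rw [ea]; exact mul_mem ha' ha') (by
      rintro k hk _ ⟨a, ha, rfl⟩
      exact ⟨k * a * k⁻¹, ctr_normalized hk ha, by group⟩) g hg z
      ⟨c, center_le_ctr hE.toFam hc, hcc.symm⟩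
    exact hgz (by rw [this, mul_inv_cancel_right])

end Cfsg.Agent.Lib.AInvMaximal21.Centric
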