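import Cfsg.Agent.Lib.AInvMaximal21.Orbit
import Cfsg.Agent.Lib.Cores.Basic

/-!
# A nilpotent maximal invariant subgroup with Sylow 2-subgroups of class two

Solvability of a group with such a subgroup under a coprime group of automorphisms.
-/

set_option autoImplicit false
set_option linter.style.haveILetI false

open Subgroup
open scoped commutatorElement

namespace Cfsg.Agent.Lib.AInvMaximal21.Main

open FTDeps.Row4240

universe v

/-- Elements of 2-power order commute up to a central commutator. -/
def TwoClass {G : Type v} [Group G] (M : Subgroup G) : Prop :=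
  ∀ a ∈ M, ∀ b ∈ M, ∀ c ∈ M, IsPGroup 2 (zpowers a) → IsPGroup 2 (zpowers b) →
    IsPGroup 2 (zpowers c) → Commute ⁅a, b⁆ c

section tools

variable {G : Type v} [Group G]

theorem twoClass_of_sylow [Finite G] {M : Subgroup G} [Group.IsNilpotent M]
    (h : ∀ S : Sylow 2 M, Group.nilpotencyClass ↥(S : Subgroup M) ≤ 2) : TwoClass M := by
  haveI : Fact (Nat.Prime 2) := ⟨Nat.prime_two⟩
  obtain ⟨S⟩ : Nonempty (Sylow 2 M) := inferInstance
  haveI hSn : (S : Subgroup M).Normal :=
    (Group.isNilpotent_of_finite_tfae (G := M)).out 0 3 rfl rfl |>.1 inferInstance 2 ⟨Nat.prime_two⟩ S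
  intro a ha b hb c hc pa pb pc
  have mem : ∀ (x : G) (hx : x ∈ M), IsPGroup 2 (zpowers x) → (⟨x, hx⟩ : M) ∈ (S : Subgroup M) := by
    intro x hx px
    obtain ⟨R, hR⟩ := (px.comap_subtype (K := M)).exists_le_sylow
    haveI := Sylow.unique_of_normal S hSn
    rw [Subsingleton.elim S R]
    exact hR (mem_zpowers x)
  haveI : Group.IsNilpotent (S : Subgroup M) := S.isPGroup'.isNilpotent
  have h2 : (⊤ : Subgroup (S : Subgroup M)).lowerCentralSeries 2 = ⊥ :=
    Subgroup.lowerCentralSeries_eq_bot_iff_nilpotencyClass_le.2 (h S)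
  let a' : (S : Subgroup M) := ⟨⟨a, ha⟩, mem a ha pa⟩
  let b' : (S : Subgroup M) := ⟨⟨b, hb⟩, mem b hb pb⟩
  let c' : (S : Subgroup M) := ⟨⟨c, hc⟩, mem c hc pc⟩
  have hm : ⁅⁅a', b'⁆, c'⁆ ∈ (⊤ : Subgroup (S : Subgroup M)).lowerCentralSeries 2 :=
    commutator_mem_commutator (commutator_mem_commutator (mem_top a') (mem_top b')) (mem_top c')
  rw [h2, mem_bot] at hm
  have := congrArg (fun z : (S : Subgroup M) => ((z : M) : G)) hm
  simp only [commutatorElement_def, Subgroup.coe_mul, Subgroup.coe_inv, OneMemClass.coe_one] at this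
  refine (commutatorElement_eq_one_iff_mul_comm.1 ?_)
  simpa [commutatorElement_def, a', b', c'] using this

theorem card_sup_dvd [Finite G] {P Q : Subgroup G} (h : P ≤ normalizer (Q : Set G)) :
    Nat.card (P ⊔ Q : Subgroup G) ∣ Nat.card P * Nat.card Q := by
  have hle : P ⊔ Q ≤ normalizer (Q : Set G) := sup_le h Subgroup.le_normalizer
  haveI : (Q.subgroupOf (P ⊔ Q)).Normal := normal_subgroupOf_of_le_normalizer hle
  have := Cores.card_sup_dvd_mul (P.subgroupOf (P ⊔ Q)) (Q.subgroupOf (P ⊔ Q))
  rw [← Subgroup.subgroupOf_sup le_sup_left le_sup_right, Subgroup.subgroupOf_self, Subgroup.card_top,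
    Nat.card_congr (subgroupOfEquivOfLe le_sup_left).toEquiv,
    Nat.card_congr (subgroupOfEquivOfLe le_sup_right).toEquiv] at this
  exact this

theorem inv_centerThompson_of {A : Subgroup (MulAut G)} [Finite G] {P : Subgroup G}
    (hP : Inv A P) : Inv A (Cfsg.centerThompsonAOf P) := inv_centerThompson hP

end tools

/-- The solvability statement for operator groups inside the automorphism group. -/
theorem isSolvable (hFT : FTDeps.Basic.OddOrderSolvable.{v}) :
    ∀ (n : ℕ) (G : Type v) [Group G] [Finite G] (A : Subgroup (MulAut G)), Nat.card G = n →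
      (Nat.card A).Coprime (Nat.card G) → ∀ M : Subgroup G, M ≠ ⊤ → Inv A M →
      (∀ H : Subgroup G, M ≤ H → H ≠ ⊤ → Inv A H → H = M) → Group.IsNilpotent M → TwoClass M →
      Group.IsSolvable G := by
  intro n
  induction n using Nat.strong_induction_on with
  | _ n ih =>
  intro G _ _ A hn hcop M hMtop hMinv hMmax hnil hcl
  haveI := hnil
  by_cases hex : ∃ N : Subgroup G, N.Normal ∧ Inv A N ∧ N ≠ ⊥ ∧ N ≤ M
  · obtain ⟨N, hNn, hNinv, hN1, hNM⟩ := hex
    haveI := hNn
    haveI : Group.IsNilpotent N := Group.nilpotent_of_mulEquiv (subgroupOfEquivOfLe hNM)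
    letI := quotAct N hNinv
    set A' : Subgroup (MulAut (G ⧸ N)) := (MulDistribMulAction.toMulAut A (G ⧸ N)).range with hA'
    have hInv : ∀ H : Subgroup (G ⧸ N), Inv A' H ↔ ∀ a : A, ∀ x ∈ H, a • x ∈ H := by
      intro H
      constructor
      · exact fun h a x hx => h ⟨_, a, rfl⟩ x hx
      · rintro h ⟨_, a, rfl⟩ x hx
        exact h a x hx
    have hlt : Nat.card (G ⧸ N) < n := by
      rw [← hn, Subgroup.card_eq_card_quotient_mul_card_subgroup N]
      exact lt_mul_of_one_lt_right Nat.card_pos ((Subgroup.one_lt_card_iff_ne_bot N).2 hN1)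
    have hcop' : (Nat.card A').Coprime (Nat.card (G ⧸ N)) :=
      (hcop.coprime_dvd_left (Subgroup.card_range_dvd _)).coprime_dvd_right
        (Subgroup.card_quotient_dvd_card N)
    set M' := M.map (QuotientGroup.mk' N) with hM'
    have hcomap : M'.comap (QuotientGroup.mk' N) = M := by
      rw [hM', Subgroup.comap_map_eq, QuotientGroup.ker_mk', sup_eq_left]
      exact hNM
    haveI : Group.IsNilpotent M' := Group.nilpotent_of_surjective _
      ((QuotientGroup.mk' N).subgroupMap_surjective M)
    haveI : Group.IsSolvable (G ⧸ N) := by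
      refine ih _ hlt (G ⧸ N) A' rfl hcop' M' (fun h => hMtop ?_) ((hInv _).2 ?_) ?_ inferInstance ?_
      · rw [← hcomap, h, Subgroup.comap_top]
      · rintro a _ ⟨x, hx, rfl⟩
        exact ⟨a • x, hMinv a x hx, rfl⟩
      · intro H hle hne hinv
        have h1 : M ≤ H.comap (QuotientGroup.mk' N) := hcomap ▸ Subgroup.comap_mono hle
        have h2 := hMmax _ h1 (fun h => hne (by
          rw [← Subgroup.map_comap_eq_self_of_surjective (QuotientGroup.mk'_surjective N) H, h,
            Subgroup.map_top_of_surjective _ (QuotientGroup.mk'_surjective N)]))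
          (fun a x hx => (hInv H).1 hinv a _ hx)
        rw [← Subgroup.map_comap_eq_self_of_surjective (QuotientGroup.mk'_surjective N) H, h2]
      · -- lift elements of 2-power order
        have hlift : ∀ y ∈ M', IsPGroup 2 (zpowers y) →
            ∃ x ∈ M, IsPGroup 2 (zpowers x) ∧ QuotientGroup.mk' N x = y := by
          rintro _ ⟨x, hx, rfl⟩ hy
          obtain ⟨i, m, hm, him⟩ := Nat.exists_eq_pow_mul_and_not_dvd (n := orderOf x)
            (orderOf_pos x).ne' 2 (by norm_num)
          obtain ⟨j, hj⟩ := IsPGroup.iff_orderOf.1 hy ⟨_, mem_zpowers _⟩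
          rw [Subgroup.orderOf_mk] at hj
          have hco : Nat.Coprime m (orderOf (QuotientGroup.mk' N x)) := by
            rw [hj]
            exact (((Nat.Prime.coprime_iff_not_dvd Nat.prime_two).2 hm).symm).pow_right j
          obtain ⟨e, he⟩ := exists_pow_eq_self_of_coprime (x := QuotientGroup.mk' N x) hco
          refine ⟨(x ^ m) ^ e, pow_mem (pow_mem hx _) _, ?_, by rw [map_pow, map_pow, he]⟩
          intro z
          refine ⟨i, Subtype.ext ?_⟩
          obtain ⟨k, hk⟩ := Subgroup.mem_zpowers_iff.1 z.2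
          rw [SubmonoidClass.coe_pow, OneMemClass.coe_one, ← hk, ← zpow_natCast (_ ^ k), ← zpow_mul,
            mul_comm, zpow_mul, zpow_natCast]
          have : ((x ^ m) ^ e) ^ 2 ^ i = 1 := by
            rw [← pow_mul, ← pow_mul, show m * (e * 2 ^ i) = orderOf x * e by rw [him]; ring,
              pow_mul, pow_orderOf_eq_one, one_pow]
          rw [this, one_zpow]
        intro a ha b hb c hc pa pb pc
        obtain ⟨a', ha', pa', rfl⟩ := hlift a ha pa
        obtain ⟨b', hb', pb', rfl⟩ := hlift b hb pb
        obtain ⟨c', hc', pc', rfl⟩ := hlift c hc pc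
        rw [← map_commutatorElement]
        exact (hcl a' ha' b' hb' c' hc' pa' pb' pc').map (QuotientGroup.mk' N)
    exact Group.isSolvable_of_ker_le_range N.subtype (QuotientGroup.mk' N) (by simp)
  push Not at hex
  -- normalisers of characteristic pieces of `M`
  have hloc : ∀ X : Subgroup G, X ≤ M → M ≤ normalizer (X : Set G) → Inv A X → X ≠ ⊥ →
      normalizer (X : Set G) ≤ M := by
    intro X hXM hn hXi hX1
    rw [hMmax _ hn (fun h => (hex X (Subgroup.normalizer_eq_top_iff.1 h) hXi hX1) hXM)
      (inv_normalizer hXi)]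
  -- Sylow subgroups of `M`
  have hsyl : ∀ p : ℕ, ∀ _ : Fact p.Prime, p ∣ Nat.card M → ∃ P : Sylow p G,
      (P : Subgroup G) ≤ M ∧ Inv A (P : Subgroup G) ∧ (P : Subgroup G) ≠ ⊥ ∧
        M ≤ normalizer ((P : Subgroup G) : Set G) := by
    intro p _ hpM
    obtain ⟨S⟩ : Nonempty (Sylow p M) := inferInstance
    haveI hSn : (S : Subgroup M).Normal :=
      (Group.isNilpotent_of_finite_tfae (G := M)).out 0 3 rfl rfl |>.1 inferInstance p inferInstance S
    haveI := Sylow.characteristic_of_normal S hSn
    set S' := (S : Subgroup M).map M.subtype with hS'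
    have hS'M : S' ≤ M := map_subtype_le _
    have hS'n : M ≤ normalizer (S' : Set G) := by
      intro m hm
      refine Subgroup.mem_normalizer_iff.2 fun x => ⟨?_, fun hx => ?_⟩
      · rintro ⟨y, hy, rfl⟩
        exact ⟨⟨m, hm⟩ * y * ⟨m, hm⟩⁻¹, hSn.conj_mem y hy _, rfl⟩
      · obtain ⟨y, hy, hy'⟩ := hx
        refine ⟨⟨m, hm⟩⁻¹ * y * ⟨m, hm⟩, ?_, ?_⟩
        · have := hSn.conj_mem y hy ⟨m, hm⟩⁻¹
          rwa [inv_inv] at this
        · rw [Subgroup.coe_subtype] at hy'
          show m⁻¹ * (y : G) * m = x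
          rw [hy']; group
    have hS'i : Inv A S' := by
      rintro a _ ⟨y, hy, rfl⟩
      let f : M ≃* M :=
        { toFun := fun z => ⟨a • (z : G), hMinv a z z.2⟩
          invFun := fun z => ⟨a⁻¹ • (z : G), hMinv a⁻¹ z z.2⟩
          left_inv := fun z => Subtype.ext (inv_smul_smul a (z : G))
          right_inv := fun z => Subtype.ext (smul_inv_smul a (z : G))
          map_mul' := fun z w => Subtype.ext (smul_mul' a (z : G) w) }
      exact ⟨f y, (Subgroup.characteristic_iff_map_le.1 inferInstance f) ⟨y, hy, rfl⟩, rfl⟩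
    have hS'1 : S' ≠ ⊥ := fun h => S.ne_bot_of_dvd_card hpM
      ((Subgroup.map_eq_bot_iff_of_injective _ M.subtype_injective).1 h)
    obtain ⟨P, hP⟩ := (S.isPGroup'.map M.subtype).exists_le_sylow
    have heq : S' = P := by
      by_contra hne
      have hlt : S'.subgroupOf (P : Subgroup G) < ⊤ := by
        rw [lt_top_iff_ne_top, Ne, Subgroup.subgroupOf_eq_top]
        exact fun hle => hne (le_antisymm hP hle)
      haveI : Group.IsNilpotent (P : Subgroup G) := P.isPGroup'.isNilpotent
      obtain ⟨x, hxN, hx⟩ := SetLike.exists_of_lt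
        (normalizerCondition_of_isNilpotent (S'.subgroupOf (P : Subgroup G)) hlt)
      apply hx
      rw [mem_subgroupOf]
      have hxN' : (x : G) ∈ normalizer (S' : Set G) := by
        rw [Subgroup.mem_normalizer_iff] at hxN ⊢
        intro z
        constructor
        · intro hz
          exact mem_subgroupOf.1 ((hxN ⟨z, hP hz⟩).1 (mem_subgroupOf.2 hz))
        · intro hz
          have hzP : z ∈ (P : Subgroup G) := by
            have := mul_mem (mul_mem (inv_mem x.2) (hP hz)) x.2
            rwa [show (x : G)⁻¹ * ((x : G) * z * (x : G)⁻¹) * x = z by group] at this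
          exact mem_subgroupOf.1 ((hxN ⟨z, hzP⟩).2 (mem_subgroupOf.2 hz))
      have hxM := hloc S' hS'M hS'n hS'i hS'1 hxN'
      refine ⟨⟨x, hxM⟩, ?_, rfl⟩
      have hp2 : IsPGroup p (zpowers (x : G)) := P.isPGroup'.to_le (zpowers_le.2 x.2)
      obtain ⟨R, hR⟩ := (hp2.comap_subtype (K := M)).exists_le_sylow
      haveI := Sylow.unique_of_normal S hSn
      rw [Subsingleton.elim S R]
      exact hR (mem_zpowers (x : G))
    exact ⟨P, heq ▸ hS'M, heq ▸ hS'i, heq ▸ hS'1, heq ▸ hS'n⟩
  by_cases hodd : ∃ p : ℕ, p.Prime ∧ p ≠ 2 ∧ p ∣ Nat.card M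
  · obtain ⟨p, hp, hp2, hpM⟩ := hodd
    haveI := Fact.mk hp
    obtain ⟨P, hPM, hPi, hP1, hPn⟩ := hsyl p inferInstance hpM
    set Z := Cfsg.centerThompsonAOf (P : Subgroup G) with hZdef
    have hZne : Z ≠ ⊥ := by
      intro h
      haveI : Nontrivial (P : Subgroup G) := (Subgroup.nontrivial_iff_ne_bot _).2 hP1
      have h1 := ZJ.inducedFunctor_zjA (G := G) (P : Subgroup G)
      rw [← hZdef, h] at h1
      exact (ZJ.isCharPFunctor_zjA p).1 (P : Subgroup G) P.isPGroup' inferInstance
        ((Subgroup.map_eq_bot_iff_of_injective _ (P : Subgroup G).subtype_injective).1 h1)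
    have hZP : Z ≤ (P : Subgroup G) := fun x hx => Subgroup.map_subtype_le _ (show x ∈ _ from hx.1)
    have hZi : Inv A Z := inv_centerThompson hPi
    have hZn : M ≤ normalizer (Z : Set G) := by
      intro m hm
      have hmap : (P : Subgroup G).map (MulAut.conj m).toMonoidHom = P := by
        refine Subgroup.eq_of_le_of_card_ge ?_ (le_of_eq
          (Subgroup.card_map_of_injective (MulAut.conj m).injective).symm)
        rintro _ ⟨x, hx, rfl⟩
        exact (Subgroup.mem_normalizer_iff.1 (hPn hm) x).1 hx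
      have hmapZ : Z.map (MulAut.conj m).toMonoidHom = Z := by
        have := ZJ.map_centerThompsonAOf (MulAut.conj m).toMonoidHom (MulAut.conj m).injective
          (P : Subgroup G)
        rw [hmap] at this
        exact this
      refine Subgroup.mem_normalizer_iff.2 fun x => ⟨fun hx => hmapZ ▸ ⟨x, hx, rfl⟩, fun hx => ?_⟩
      rw [← hmapZ] at hx
      obtain ⟨y, hy, hy'⟩ := hx
      rwa [← (MulAut.conj m).injective hy']
    have hNM : normalizer (Z : Set G) = M :=
      le_antisymm (hloc Z (hZP.trans hPM) hZn hZi hZne) hZn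
    haveI : Group.IsNilpotent (normalizer (Z : Set G)) := by rw [hNM]; exact hnil
    obtain ⟨P₀, N, hN, hNP⟩ :=
      S0659.result hp2 P Transfer.Frobenius.hasNormalPComplement_of_isNilpotent
    haveI := hN
    -- the complement is characteristic
    have hNP' : N.IsComplement' (P : Subgroup G) := by
      refine Subgroup.isComplement'_of_coprime ?_ ?_
      · rw [P.card_eq_multiplicity, ← P₀.card_eq_multiplicity]
        exact hNP.card_mul
      · rw [P.card_eq_multiplicity, ← P₀.card_eq_multiplicity, ← hNP.symm.index_eq_card]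
        have h := P₀.not_dvd_index
        rw [hNP.index_eq_card] at h
        obtain ⟨k, hk⟩ := IsPGroup.iff_card.1 P₀.isPGroup'
        rw [hNP.symm.index_eq_card, hk]
        exact ((hp.coprime_iff_not_dvd.2 h).pow_left k).symm
    have hNchar : ∀ β : MulAut G, ∀ x ∈ N, β x ∈ N :=
      fun β x hx => inv_pComplement (A := MulAut G) hNP β x hx
    let res : MulAut G →* MulAut N :=
      { toFun := fun β =>
          { toFun := fun x => ⟨β (x : G), hNchar β x x.2⟩
            invFun := fun x => ⟨β⁻¹ (x : G), hNchar β⁻¹ x x.2⟩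
            left_inv := fun x => Subtype.ext (β.symm_apply_apply (x : G))
            right_inv := fun x => Subtype.ext (β.apply_symm_apply (x : G))
            map_mul' := fun x y => Subtype.ext (map_mul β (x : G) (y : G)) }
        map_one' := rfl
        map_mul' := fun _ _ => rfl }
    set C := (P : Subgroup G).map (MulAut.conj : G →* MulAut G) with hC
    have hAC : A ≤ normalizer (C : Set (MulAut G)) := by
      have key : ∀ a ∈ A, ∀ γ ∈ C, a * γ * a⁻¹ ∈ C := by
        rintro a ha _ ⟨x, hx, rfl⟩
        refine ⟨a x, hPi ⟨a, ha⟩ x hx, MulEquiv.ext fun z => ?_⟩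
        simp [MulAut.conj_apply]
      intro a ha
      refine Subgroup.mem_normalizer_iff.2 fun γ => ⟨key a ha γ, fun h => ?_⟩
      have := key a⁻¹ (inv_mem ha) _ h
      rwa [show a⁻¹ * (a * γ * a⁻¹) * a⁻¹⁻¹ = γ by group] at this
    set B := (A ⊔ C).map res with hB
    have hNdvd : Nat.card N ∣ Nat.card G := Subgroup.card_subgroup_dvd_card N
    have hBcop : (Nat.card B).Coprime (Nat.card N) := by
      refine Nat.Coprime.coprime_dvd_left ((Subgroup.card_map_dvd _ _).trans
        ((card_sup_dvd hAC).trans (mul_dvd_mul_left _ (Subgroup.card_map_dvd _ _)))) ?_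
      refine Nat.Coprime.mul_left (hcop.coprime_dvd_right hNdvd) ?_
      rw [← hNP'.symm.index_eq_card]
      have h := P.not_dvd_index
      rw [hNP'.index_eq_card] at h
      obtain ⟨k, hk⟩ := IsPGroup.iff_card.1 P.isPGroup'
      rw [hNP'.symm.index_eq_card, hk]
      exact (hp.coprime_iff_not_dvd.2 h).pow_left k
    have hdecomp : ∀ g : G, ∃ k ∈ N, ∃ x ∈ (P : Subgroup G), g = k * x := by
      intro g
      obtain ⟨⟨⟨k, hk⟩, ⟨x, hx⟩⟩, h⟩ := hNP'.2 g
      exact ⟨k, hk, x, hx, h.symm⟩
    have hlt : Nat.card N < n := by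
      rw [← hn, ← hNP'.card_mul]
      exact lt_mul_of_one_lt_right Nat.card_pos ((Subgroup.one_lt_card_iff_ne_bot _).2 hP1)
    haveI : Group.IsSolvable N := by
      refine ih _ hlt N B rfl hBcop (M.subgroupOf N) (fun h => hMtop ?_) ?_ ?_ ?_ ?_
      · rw [Subgroup.subgroupOf_eq_top] at h
        refine eq_top_iff.2 fun g _ => ?_
        obtain ⟨k, hk, x, hx, rfl⟩ := hdecomp g
        exact mul_mem (h hk) (hPM hx)
      · rintro ⟨_, β, hβ, rfl⟩ x hx
        rw [mem_subgroupOf] at hx ⊢
        have hle : A ⊔ C ≤ ({ carrier := {β | ∀ m, m ∈ M ↔ β m ∈ M}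
                              one_mem' := fun m => Iff.rfl
                              mul_mem' := fun hb hc m => (hc m).trans (hb _)
                              inv_mem' := fun {b} hb m => by
                                have := hb (b⁻¹ m)
                                rw [MulAut.apply_inv_self] at this
                                exact this.symm } : Subgroup (MulAut G)) := by
          refine sup_le (fun a ha m => ⟨fun hm => hMinv ⟨a, ha⟩ m hm, fun hm => ?_⟩) ?_
          · have := hMinv ⟨a⁻¹, inv_mem ha⟩ _ hm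
            simpa using this
          · rintro _ ⟨y, hy, rfl⟩ m
            rw [MulAut.conj_apply]
            exact ⟨fun hm => mul_mem (mul_mem (hPM hy) hm) (inv_mem (hPM hy)), fun hm => by
              have := mul_mem (mul_mem (inv_mem (hPM hy)) hm) (hPM hy)
              rwa [show y⁻¹ * (y * m * y⁻¹) * y = m by group] at this⟩
        exact ((hle hβ) _).1 hx
      · intro H hle hne hinv
        set H' := H.map N.subtype with hH'
        have hH'N : H' ≤ N := map_subtype_le _
        have hPH : (P : Subgroup G) ≤ normalizer (H' : Set G) := by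
          have key : ∀ y ∈ (P : Subgroup G), ∀ z ∈ H', y * z * y⁻¹ ∈ H' := by
            rintro y hy _ ⟨z, hz, rfl⟩
            exact ⟨res (MulAut.conj y) z,
              hinv ⟨res (MulAut.conj y), _, mem_sup_right ⟨y, hy, rfl⟩, rfl⟩ z hz, rfl⟩
          intro y hy
          refine Subgroup.mem_normalizer_iff.2 fun z => ⟨key y hy z, fun h => ?_⟩
          have := key y⁻¹ (inv_mem hy) _ h
          rwa [show y⁻¹ * (y * z * y⁻¹) * y⁻¹⁻¹ = z by group] at this
        have hdec : ∀ g ∈ H' ⊔ (P : Subgroup G), ∃ z ∈ H', ∃ x ∈ (P : Subgroup G), g = z * x := by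
          intro g hg
          have := Subgroup.coe_mul_of_right_le_normalizer_left H' (P : Subgroup G) hPH
          rw [← SetLike.mem_coe, this] at hg
          obtain ⟨z, hz, x, hx, rfl⟩ := hg
          exact ⟨z, hz, x, hx, rfl⟩
        have hMle : M ≤ H' ⊔ (P : Subgroup G) := by
          intro m hm
          obtain ⟨k, hk, x, hx, rfl⟩ := hdecomp m
          have hkM : k ∈ M := by
            have := mul_mem hm (inv_mem (hPM hx))
            rwa [mul_inv_cancel_right] at this
          exact mul_mem (mem_sup_left ⟨⟨k, hk⟩, hle (mem_subgroupOf.2 hkM), rfl⟩)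
            (mem_sup_right hx)
        have hne' : H' ⊔ (P : Subgroup G) ≠ ⊤ := by
          intro htop
          refine hne (eq_top_iff.2 fun k _ => ?_)
          obtain ⟨z, hz, x, hx, he⟩ := hdec (k : G) (htop ▸ mem_top _)
          have hxN : x ∈ N := by
            have := mul_mem (inv_mem (hH'N hz)) k.2
            rwa [he, inv_mul_cancel_left] at this
          rw [Subgroup.disjoint_def.1 hNP'.disjoint hxN hx, mul_one] at he
          obtain ⟨z', hz', hz''⟩ := hz
          rwa [show k = z' from Subtype.ext (he.trans hz''.symm)]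
        have hinv' : Inv A (H' ⊔ (P : Subgroup G)) := by
          refine inv_sup ?_ hPi
          rintro a _ ⟨z, hz, rfl⟩
          exact ⟨res a z, hinv ⟨res a, _, mem_sup_left a.2, rfl⟩ z hz, rfl⟩
        have heq := hMmax _ hMle hne' hinv'
        refine le_antisymm (fun z hz => ?_) hle
        rw [mem_subgroupOf, ← heq]
        exact mem_sup_left ⟨z, hz, rfl⟩
      · exact Group.nilpotent_of_mulEquiv
          (G := ↥((M ⊓ N).subgroupOf M)) ((subgroupOfEquivOfLe inf_le_left).trans
            ((subgroupOfEquivOfLe inf_le_right).symm.trans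
              (MulEquiv.subgroupCongr (Subgroup.inf_subgroupOf_right M N))))
      · intro a ha b hb c hc pa pb pc
        rw [mem_subgroupOf] at ha hb hc
        have conv : ∀ x : N, IsPGroup 2 (zpowers x) → IsPGroup 2 (zpowers (x : G)) := by
          intro x hx
          have h1 := hx.map N.subtype
          rwa [MonoidHom.map_zpowers] at h1
        have h := hcl _ ha _ hb _ hc (conv a pa) (conv b pb) (conv c pc)
        apply Subtype.ext
        simpa [commutatorElement_def] using h.eq
    haveI : Group.IsSolvable (G ⧸ N) := by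
      have : IsPGroup p (G ⧸ N) := by
        obtain ⟨k, hk⟩ := IsPGroup.iff_card.1 P.isPGroup'
        exact IsPGroup.of_card (n := k) (by rw [← hk, ← hNP'.symm.index_eq_card]; rfl)
      haveI := this.isNilpotent
      infer_instance
    exact Group.isSolvable_of_ker_le_range N.subtype (QuotientGroup.mk' N) (by simp)
  push Not at hodd
  haveI : Fact (Nat.Prime 2) := ⟨Nat.prime_two⟩
  have hcop2 : Nat.card A ≠ 0 := Nat.card_pos.ne'
  by_cases h2 : 2 ∣ Nat.card M
  · obtain ⟨S, hSM, hSi, hS1, hSn⟩ := hsyl 2 inferInstance h2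
    have hMS : M = S := by
      refine le_antisymm ?_ hSM
      have hM2 : IsPGroup 2 M := IsPGroup.of_card
        (Nat.eq_prime_pow_of_unique_prime_dvd Nat.card_pos.ne' fun {d} hd hdd =>
          by_contra fun hne => hodd d hd hne hdd)
      rw [S.is_maximal' hM2 hSM]
    subst hMS
    have hA : Odd (Nat.card A) := by
      rw [← Nat.not_even_iff_odd]
      intro he
      have h2G : 2 ∣ Nat.card G := h2.trans (Subgroup.card_subgroup_dvd_card _)
      have := Nat.dvd_gcd he.two_dvd h2G
      rw [hcop.gcd_eq_one] at this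
      norm_num at this
    have htwo : ∀ a ∈ (S : Subgroup G), IsPGroup 2 (zpowers a) := fun a ha =>
      S.isPGroup'.to_le (zpowers_le.2 ha)
    have hcomp := Orbit.hasNormalPComplement S hSi hA hS1
      (fun a ha b hb c hc => hcl a ha b hb c hc (htwo a ha) (htwo b hb) (htwo c hc)) hloc
    obtain ⟨P₀, N, hN, hNP⟩ := hcomp
    haveI := hN
    have hNodd : Odd (Nat.card N) := by
      rw [← Nat.not_even_iff_odd]
      intro he
      apply P₀.not_dvd_index
      rw [hNP.index_eq_card]
      exact he.two_dvd
    haveI : Group.IsSolvable N := hFT N hNodd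
    haveI : Group.IsSolvable (G ⧸ N) := by
      have : IsPGroup 2 (G ⧸ N) := by
        obtain ⟨k, hk⟩ := IsPGroup.iff_card.1 P₀.isPGroup'
        exact IsPGroup.of_card (n := k) (by rw [← hk, ← hNP.symm.index_eq_card]; rfl)
      haveI := this.isNilpotent
      infer_instance
    exact Group.isSolvable_of_ker_le_range N.subtype (QuotientGroup.mk' N) (by simp)
  · -- `M` is trivial
    have hM1 : M = ⊥ := by
      refine Subgroup.card_eq_one.1 (by_contra fun hne => ?_)
      obtain ⟨q, hq, hqd⟩ := Nat.exists_prime_and_dvd hne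
      exact hodd q hq (fun h => h2 (h ▸ hqd)) hqd
    by_cases hG1 : Nat.card G = 1
    · haveI := (Nat.card_eq_one_iff_unique.1 hG1).1
      exact Group.isSolvable_of_comm fun a b => Subsingleton.elim _ _
    obtain ⟨q, hq, hqd⟩ := Nat.exists_prime_and_dvd hG1
    haveI := Fact.mk hq
    obtain ⟨Q, hQ⟩ := exists_inv_sylow (A := A) (G := G) hFT hFT hcop q
    have hQtop : (Q : Subgroup G) = ⊤ := by
      by_contra hne
      exact Q.ne_bot_of_dvd_card hqd ((hMmax _ (hM1 ▸ bot_le) hne hQ).trans hM1)
    have := Q.isPGroup'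
    rw [hQtop] at this
    haveI := (this.of_equiv Subgroup.topEquiv).isNilpotent
    infer_instance

end Cfsg.Agent.Lib.AInvMaximal21.Main
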