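import Cfsg.Agent.Lib.AInvMaximal21.Clash
import Cfsg.Agent.Lib.FTDeps.Row4240

/-!
# The orbit of a good member

With an operator group of odd order the centres of the conjugates of a good member generate an
invariant subgroup normalised by the normaliser of that member.  Hence a self-normalising Sylow
2-subgroup of class two which is the normaliser of all its invariant normal subgroups has a normal
complement.
-/

set_option autoImplicit false

open Subgroup
open scoped commutatorElement

namespace Cfsg.Agent.Lib.AInvMaximal21.Orbit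

open Centric FTDeps.Row4240

universe u v

variable {A : Type u} {G : Type v} [Group A] [Group G] [Finite G] [MulDistribMulAction A G]

/-- The image of a subgroup under an operator. -/
abbrev img (a : A) (E : Subgroup G) : Subgroup G :=
  E.map (MulDistribMulAction.toMulAut A G a).toMonoidHom

omit [Finite G] in
theorem mem_img {a : A} {E : Subgroup G} {x : G} : x ∈ img a E ↔ a⁻¹ • x ∈ E := by
  constructor
  · rintro ⟨y, hy, rfl⟩
    simpa using hy
  · exact fun h => ⟨_, h, smul_inv_smul a x⟩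

omit [Finite G] in
theorem smul_mem_ctr {a : A} {E : Subgroup G} {x : G} (hx : x ∈ ctr E) :
    a • x ∈ ctr (img a E) := by
  rw [mem_ctr] at hx ⊢
  refine ⟨by rw [mem_img, inv_smul_smul]; exact hx.1, fun e he => ?_⟩
  rw [mem_img] at he
  have := (hx.2 _ he).eq
  show a • x * e = e * (a • x)
  conv_lhs => rw [← smul_inv_smul a e, ← smul_mul', this, smul_mul', smul_inv_smul]

theorem good_img {S E : Subgroup G} (hS : Inv A S) (hE : Good S E) (a : A) :
    Good S (img a E) := by
  refine ⟨⟨fun x hx => ?_, fun x hx hc => ?_, ?_⟩, fun F hF => ?_⟩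
  · rw [mem_img] at hx
    simpa using hS a _ (hE.le hx)
  · rw [mem_img]
    refine hE.centric _ (hS _ _ hx) fun e he => ?_
    have := (hc (a • e) (by rw [mem_img, inv_smul_smul]; exact he)).eq
    show a⁻¹ • x * e = e * a⁻¹ • x
    conv_lhs => rw [← inv_smul_smul a e, ← smul_mul', this, smul_mul', inv_smul_smul]
  · obtain ⟨g, hg, hgS⟩ := hE.outside
    refine ⟨a • g, Subgroup.mem_normalizer_iff.2 fun x => ?_, fun h => hgS ?_⟩
    · rw [mem_img, mem_img, smul_mul', smul_mul', smul_inv', inv_smul_smul]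
      exact Subgroup.mem_normalizer_iff.1 hg _
    · simpa using hS a⁻¹ _ h
  · refine (hE.card_le F hF).trans (le_of_eq ?_)
    exact (Subgroup.card_map_of_injective (MulDistribMulAction.toMulAut A G a).injective).symm

theorem no_good [Finite A] {S : Subgroup G} (h : Ctx S) (hS : Inv A S) (hA : Odd (Nat.card A))
    (hloc : ∀ X : Subgroup G, X ≤ S → S ≤ normalizer (X : Set G) → Inv A X → X ≠ ⊥ →
      normalizer (X : Set G) ≤ S) {E : Subgroup G} (hE : Good S E) : False := by
  by_cases hcl : ∃ a : A, ∃ x ∈ ctr E, a • x ∉ E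
  · obtain ⟨a, x, hx, hxa⟩ := hcl
    -- `a • E` clashes with `E`, so `E` clashes with `a • E` and with `a⁻¹ • E`
    obtain ⟨u₁, hu₁, hu₁F⟩ := clash_symm h (good_img hS hE a) hE (smul_mem_ctr hx) hxa
    have hu₂ : x ∉ img a⁻¹ E := by rw [mem_img, inv_inv]; exact hxa
    have heq := clash_unique h hE (good_img hS hE a) (good_img hS hE a⁻¹) hu₁ hu₁F hx hu₂
    have h2 : ∀ y : G, y ∈ E ↔ (a * a) • y ∈ E := by
      intro y
      constructor
      · intro hy
        have h1 : a • y ∈ img a⁻¹ E := heq ▸ (mem_img.2 (by rw [inv_smul_smul]; exact hy))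
        rw [mem_img, inv_inv] at h1
        rwa [mul_smul]
      · intro hy
        have h1 : a • y ∈ img a E := by
          rw [heq, mem_img, inv_inv, ← mul_smul]; exact hy
        rwa [mem_img, inv_smul_smul] at h1
    have hodd : Odd (orderOf a) := by
      exact Odd.of_dvd_nat hA (orderOf_dvd_natCard a)
    have hpow : ∀ n : ℕ, ∀ y ∈ E, (a * a) ^ n • y ∈ E := by
      intro n
      induction n with
      | zero => simp
      | succ n ih =>
        intro y hy
        rw [pow_succ, mul_smul]
        exact ih _ ((h2 y).1 hy)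
    obtain ⟨m, hm⟩ := hodd
    apply hxa
    have := hpow (m + 1) x (mem_ctr.1 hx).1
    rwa [← sq, ← pow_mul, show 2 * (m + 1) = orderOf a + 1 by omega, pow_succ, pow_orderOf_eq_one,
      one_mul] at this
  · push Not at hcl
    set W : Subgroup G := closure {y | ∃ a : A, ∃ x ∈ ctr E, y = a • x} with hW
    have hWE : W ≤ E := (closure_le _).2 (by rintro _ ⟨a, x, hx, rfl⟩; exact hcl a x hx)
    have hUW : ctr E ≤ W := fun x hx => subset_closure ⟨1, x, hx, (one_smul A x).symm⟩
    have hWi : Inv A W := by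
      intro b y hy
      have hle : W ≤ W.comap (MulDistribMulAction.toMulAut A G b).toMonoidHom := by
        refine (closure_le _).2 ?_
        rintro _ ⟨a, x, hx, rfl⟩
        exact subset_closure ⟨b * a, x, hx, (mul_smul b a x).symm⟩
      exact hle hy
    have hN : normalizer (E : Set G) ≤ normalizer (W : Set G) := by
      have key : ∀ g ∈ normalizer (E : Set G), ∀ w ∈ W, g * w * g⁻¹ ∈ W := by
        intro g hg w hw
        rw [show g * w * g⁻¹ = ⁅g, w⁆ * w by rw [commutatorElement_def]; group]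
        exact mul_mem (hUW (commutator_mem_ctr h hE.toFam hg (hWE hw))) hw
      intro g hg
      refine Subgroup.mem_normalizer_iff.2 fun x => ⟨key g hg x, fun hx => ?_⟩
      have := key g⁻¹ (inv_mem hg) _ hx
      rwa [show g⁻¹ * (g * x * g⁻¹) * g⁻¹⁻¹ = x by group] at this
    have hWne : W ≠ ⊥ := by
      intro hbot
      obtain ⟨x, hx, hxZ⟩ := exists_ctr_not_center h hE.toFam
      have := hUW hx
      rw [hbot, mem_bot] at this
      exact hxZ (this ▸ one_mem _)
    obtain ⟨g, hg, hgS⟩ := hE.outside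
    exact hgS (hloc W (hWE.trans hE.le) ((le_normalizer h hE.toFam).trans hN) hWi hWne (hN hg))

/-- A Sylow 2-subgroup of class two, the only invariant local subgroup, has a normal complement. -/
theorem hasNormalPComplement [Finite A] (S : Sylow 2 G) (hS : Inv A (S : Subgroup G))
    (hA : Odd (Nat.card A)) (hS1 : (S : Subgroup G) ≠ ⊥)
    (hclass : ∀ a ∈ (S : Subgroup G), ∀ b ∈ (S : Subgroup G), ∀ c ∈ (S : Subgroup G),
      Commute ⁅a, b⁆ c)
    (hloc : ∀ X : Subgroup G, X ≤ S → (S : Subgroup G) ≤ normalizer (X : Set G) → Inv A X →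
      X ≠ ⊥ → normalizer (X : Set G) ≤ S) :
    Cfsg.HasNormalPComplement 2 G := by
  classical
  haveI : Fact (Nat.Prime 2) := ⟨Nat.prime_two⟩
  set T := (S : Subgroup G) with hT
  set Z := T ⊓ centralizer (T : Set G) with hZ
  have hZi : Inv A Z := by
    intro a x hx
    refine Subgroup.mem_inf.2 ⟨hS a x hx.1, Subgroup.mem_centralizer_iff.2 fun y hy => ?_⟩
    have := Subgroup.mem_centralizer_iff.1 hx.2 _ (hS a⁻¹ y hy)
    conv_lhs => rw [← smul_inv_smul a y, ← smul_mul', this, smul_mul', smul_inv_smul]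
  have hZn : T ≤ normalizer (Z : Set G) := by
    intro s hs
    refine Subgroup.mem_normalizer_iff.2 fun x => ⟨fun hx => ?_, fun hx => ?_⟩
    · rw [Subgroup.mem_centralizer_iff.1 hx.2 s hs, mul_inv_cancel_right]; exact hx
    · have h1 : s * x * s⁻¹ ∈ Z := hx
      have h2 := Subgroup.mem_centralizer_iff.1 h1.2 s hs
      have h3 : x = s * x * s⁻¹ := by
        calc x = s⁻¹ * (s * x * s⁻¹ * s) := by group
          _ = s * x * s⁻¹ := by rw [← h2]; group
      rw [h3]; exact h1
  have hZne : Z ≠ ⊥ := by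
    haveI : Nontrivial T := (Subgroup.nontrivial_iff_ne_bot T).2 hS1
    haveI := IsPGroup.center_nontrivial (G := T) S.isPGroup'
    obtain ⟨⟨z, hz⟩, hz1⟩ := exists_ne (1 : Subgroup.center T)
    intro hbot
    have hzZ : (z : G) ∈ Z := Subgroup.mem_inf.2 ⟨z.2, Subgroup.mem_centralizer_iff.2 fun y hy =>
      congrArg Subtype.val (Subgroup.mem_center_iff.1 hz ⟨y, hy⟩)⟩
    rw [hbot, mem_bot] at hzZ
    exact hz1 (Subtype.ext (Subtype.ext hzZ))
  have hctx : Ctx T := by
    refine ⟨S.isPGroup', fun R hR hle => S.is_maximal' hR hle, hclass,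
      hloc T le_rfl Subgroup.le_normalizer hS hS1, fun g hg => ?_, hloc Z inf_le_left hZn hZi hZne⟩
    refine hloc Z inf_le_left hZn hZi hZne (Subgroup.mem_normalizer_iff.2 fun x => ?_)
    constructor
    · intro hx
      rw [(hg x hx).eq, mul_inv_cancel_right]; exact hx
    · intro hx
      have h2 := (hg _ hx).eq
      have h3 : x = g * x * g⁻¹ := by
        calc x = g⁻¹ * (g * x * g⁻¹ * g) := by group
          _ = g * x * g⁻¹ := by rw [← h2]; group
      rw [h3]; exact hx
  by_contra hno
  let Bad : Subgroup G → Prop := fun Q => IsPGroup 2 Q ∧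
    ∃ g ∈ normalizer (Q : Set G), (orderOf g).Coprime 2 ∧ g ∉ centralizer (Q : Set G)
  have hex : ∃ Q, Bad Q := by
    by_contra hn
    exact hno (Transfer.Frobenius.hasNormalPComplement_of_forall_centralizes
      fun Q hQ _ g hg ho => by_contra fun hc => hn ⟨Q, hQ, g, hg, ho, hc⟩)
  obtain ⟨Q, ⟨hQ2, g, hg, ho, hgc⟩, hQmax⟩ :=
    Set.Finite.exists_maximalFor (fun Q : Subgroup G => Nat.card Q) {Q | Bad Q}
      (Set.toFinite _) hex
  -- the 2-elements of the centraliser lie in `Q`
  have hcent : ∀ x ∈ centralizer (Q : Set G), IsPGroup 2 (zpowers x) → x ∈ Q := by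
    intro x hx hx2
    set C := centralizer (Q : Set G) with hC
    obtain ⟨P, hP⟩ := (hx2.comap_subtype (K := C)).exists_le_sylow
    set P' := (P : Subgroup C).map C.subtype with hP'
    have hxP : x ∈ P' := ⟨⟨x, hx⟩, hP (mem_zpowers x), rfl⟩
    by_contra hxQ
    have hP'C : P' ≤ C := map_subtype_le _
    have hPQ : P' ≤ normalizer (Q : Set G) := hP'C.trans (centralizer_le_normalizer _)
    have hQ1 : IsPGroup 2 (Q ⊔ P' : Subgroup G) :=
      IsPGroup.to_sup_of_normal_left' hQ2 (P.isPGroup'.map _) hPQ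
    -- Frattini
    set N := normalizer (Q : Set G) with hN
    have hCN : C ≤ N := centralizer_le_normalizer _
    have hCn : ∀ k ∈ N, ∀ y ∈ C, k * y * k⁻¹ ∈ C := by
      intro k hk y hy
      refine Subgroup.mem_centralizer_iff.2 fun q hq => ?_
      have hq' : k⁻¹ * q * k ∈ Q := by
        have := (Subgroup.mem_normalizer_iff.1 (inv_mem hk) q).1 hq
        simpa using this
      have := Subgroup.mem_centralizer_iff.1 hy _ hq'
      calc q * (k * y * k⁻¹) = k * (k⁻¹ * q * k * y) * k⁻¹ := by group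
        _ = _ := by rw [this]; group
    let f : C →* C :=
      { toFun := fun y => ⟨g * y * g⁻¹, hCn g hg y y.2⟩
        map_one' := Subtype.ext (by simp)
        map_mul' := fun a b => Subtype.ext (by simp [mul_assoc]) }
    have hf : Function.Injective f := fun a b hab => by
      have := congrArg Subtype.val hab
      exact Subtype.ext (by simpa [f] using this)
    obtain ⟨R, hR⟩ := (P.isPGroup'.map f).exists_le_sylow
    have hReq : (P : Subgroup C).map f = R := Subgroup.eq_of_le_of_card_ge hR (le_of_eq (by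
      rw [Subgroup.card_map_of_injective hf, R.card_eq_multiplicity, P.card_eq_multiplicity]))
    obtain ⟨c, hc⟩ := MulAction.exists_smul_eq C R P
    set k := (c : G) * g with hk
    have hkN : k ∈ N := mul_mem (hCN c.2) hg
    have hkP : ∀ y ∈ P', k * y * k⁻¹ ∈ P' := by
      rintro _ ⟨y, hy, rfl⟩
      refine ⟨c * f y * c⁻¹, ?_, by simp [k, f, mul_assoc]⟩
      rw [← hc]
      show c * f y * c⁻¹ ∈ ((c • R : Sylow 2 C) : Subgroup C)
      rw [Sylow.coe_subgroup_smul]
      refine ⟨f y, hReq ▸ ⟨y, hy, rfl⟩, ?_⟩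
      simp [MulAut.smul_def]
    have hkQ1 : k ∈ normalizer ((Q ⊔ P' : Subgroup G) : Set G) := by
      have hmap : (Q ⊔ P').map (MulAut.conj k).toMonoidHom ≤ Q ⊔ P' := by
        rw [Subgroup.map_sup, sup_le_iff]
        constructor
        · rintro _ ⟨y, hy, rfl⟩
          exact mem_sup_left ((Subgroup.mem_normalizer_iff.1 hkN y).1 hy)
        · rintro _ ⟨y, hy, rfl⟩
          exact mem_sup_right (hkP y hy)
      have heq := Subgroup.eq_of_le_of_card_ge hmap (le_of_eq
        (Subgroup.card_map_of_injective (MulAut.conj k).injective).symm)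
      refine Subgroup.mem_normalizer_iff.2 fun z => ⟨fun hz => hmap ⟨z, hz, rfl⟩, fun hz => ?_⟩
      rw [← heq] at hz
      obtain ⟨z', hz', h'⟩ := hz
      rwa [← (MulAut.conj k).injective h']
    -- an odd power of `k` acting on `Q` as `g`
    obtain ⟨i, m, hm, him⟩ := Nat.exists_eq_pow_mul_and_not_dvd (n := orderOf k)
      (orderOf_pos k).ne' 2 (by norm_num)
    have hcop : Nat.Coprime (2 ^ i) (orderOf g) := (ho.symm).pow_left i
    obtain ⟨e, he⟩ := exists_pow_eq_self_of_coprime (x := g) hcop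
    have hact : ∀ n : ℕ, ∀ q ∈ Q, k ^ n * q * (k ^ n)⁻¹ = g ^ n * q * (g ^ n)⁻¹ := by
      intro n
      induction n with
      | zero => simp
      | succ n ih =>
        intro q hq
        have hgq : g * q * g⁻¹ ∈ Q := (Subgroup.mem_normalizer_iff.1 hg q).1 hq
        have e1 : k * q * k⁻¹ = g * q * g⁻¹ := by
          have := Subgroup.mem_centralizer_iff.1 c.2 _ hgq
          calc k * q * k⁻¹ = (c : G) * (g * q * g⁻¹) * (c : G)⁻¹ := by rw [hk]; group
            _ = _ := by rw [← this, mul_inv_cancel_right]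
        calc k ^ (n + 1) * q * (k ^ (n + 1))⁻¹ = k ^ n * (k * q * k⁻¹) * (k ^ n)⁻¹ := by
              rw [pow_succ]; group
          _ = g ^ n * (g * q * g⁻¹) * (g ^ n)⁻¹ := by rw [e1, ih _ hgq]
          _ = _ := by rw [pow_succ]; group
    have hbad : Bad (Q ⊔ P') := by
      refine ⟨hQ1, k ^ (2 ^ i * e), pow_mem hkQ1 _, ?_, fun hcc => hgc ?_⟩
      · refine Nat.Coprime.coprime_dvd_left (orderOf_dvd_of_pow_eq_one (n := m) ?_) ?_
        · rw [← pow_mul, mul_comm (2 ^ i) e, mul_assoc, ← him, mul_comm, pow_mul,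
            pow_orderOf_eq_one, one_pow]
        · exact ((Nat.Prime.coprime_iff_not_dvd Nat.prime_two).2 hm).symm
      · refine Subgroup.mem_centralizer_iff.2 fun q hq => ?_
        have h1 := Subgroup.mem_centralizer_iff.1 hcc q (mem_sup_left hq)
        have h2 := hact (2 ^ i * e) q hq
        rw [← h1, mul_inv_cancel_right, pow_mul g, he] at h2
        exact mul_inv_eq_iff_eq_mul.1 h2.symm |>.symm
    have hle : Nat.card Q ≤ Nat.card (Q ⊔ P' : Subgroup G) := Subgroup.card_le_of_le le_sup_left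
    have hge := hQmax hbad hle
    have heq := Subgroup.eq_of_le_of_card_ge (le_sup_left : Q ≤ Q ⊔ P') hge
    exact hxQ (heq ▸ mem_sup_right hxP)
  -- move `Q` into `T`
  obtain ⟨R, hR⟩ := hQ2.exists_le_sylow
  obtain ⟨x, hx⟩ := MulAction.exists_smul_eq G R S
  set Q' := Q.map (MulAut.conj x).toMonoidHom with hQ'
  have hQT : Q' ≤ T := by
    rintro _ ⟨q, hq, rfl⟩
    rw [hT, ← hx, Sylow.coe_subgroup_smul]
    exact ⟨q, hR hq, rfl⟩
  have hfam : Fam T Q' := by
    refine ⟨hQT, fun y hy hc => ?_, x * g * x⁻¹, ?_, fun hgT => ?_⟩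
    · refine ⟨x⁻¹ * y * x, hcent _ (Subgroup.mem_centralizer_iff.2 fun q hq => ?_) ?_, by simp [mul_assoc]⟩
      · have h1 := (hc _ ⟨q, hq, rfl⟩).eq
        simp only [MulEquiv.coe_toMonoidHom, MulAut.conj_apply] at h1
        calc q * (x⁻¹ * y * x) = x⁻¹ * (x * q * x⁻¹ * y) * x := by group
          _ = _ := by rw [← h1]; group
      · refine IsPGroup.of_card (n := (orderOf y).factorization 2) ?_
        obtain ⟨j, hj⟩ := IsPGroup.iff_orderOf.1 S.isPGroup' ⟨y, hy⟩
        rw [Subgroup.orderOf_mk] at hj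
        rw [Nat.card_zpowers, show x⁻¹ * y * x = (MulAut.conj x⁻¹) y by simp,
          MulEquiv.orderOf_eq, hj, Nat.Prime.factorization_pow Nat.prime_two, Finsupp.single_eq_same]
    · refine Subgroup.mem_normalizer_iff.2 fun z => ?_
      have hz : ∀ w, w ∈ Q' ↔ x⁻¹ * w * x ∈ Q := fun w => by
        constructor
        · rintro ⟨q, hq, rfl⟩; simpa [mul_assoc] using hq
        · exact fun hw => ⟨_, hw, by simp [mul_assoc]⟩
      rw [hz, hz, show x⁻¹ * (x * g * x⁻¹ * z * (x * g * x⁻¹)⁻¹) * x
        = g * (x⁻¹ * z * x) * g⁻¹ by group]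
      exact Subgroup.mem_normalizer_iff.1 hg _
    · obtain ⟨j, hj⟩ := IsPGroup.iff_orderOf.1 S.isPGroup' ⟨_, hgT⟩
      rw [Subgroup.orderOf_mk, show x * g * x⁻¹ = (MulAut.conj x) g by simp,
        MulEquiv.orderOf_eq] at hj
      have : orderOf g = 1 := Nat.eq_one_of_dvd_coprimes (ho.pow_right j) dvd_rfl (dvd_of_eq hj)
      exact hgc (orderOf_eq_one_iff.1 this ▸ one_mem _)
  obtain ⟨E, hE, hEmax⟩ := Set.Finite.exists_maximalFor (fun E : Subgroup G => Nat.card E)
    {E | Fam T E} (Set.toFinite _) ⟨Q', hfam⟩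
  refine no_good hctx hS hA hloc (E := E) ⟨hE, fun F hF => ?_⟩
  rcases le_total (Nat.card F) (Nat.card E) with h1 | h1
  · exact h1
  · exact hEmax hF h1

end Cfsg.Agent.Lib.AInvMaximal21.Orbit
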